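import Cfsg.Agent.Lib.Helper1.Stem10
import Cfsg.Agent.Lib.Helper1.StemZD7

set_option autoImplicit false

/-! # The lift of a perfect normal subgroup with a cyclic quotient of order prime to `p`:
the kernel of its stem extension is bounded by the kernels of the stem extensions of the whole
group -/

namespace Cfsg.Agent.Lib.Helper4.Sparse

open Cfsg.Agent.Lib.Helper1.Stem

open scoped commutatorElement

universe u v

section

variable {Γ : Type u} {G : Type v} [Group Γ] [Group G] [Finite Γ] (σ : Γ →* G)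

/-- the lift of a normal subgroup of `K` is normalised by the preimage of `K` -/
theorem conj_mem_liftSub (K K₁ : Subgroup G) (hnorm : ∀ k ∈ K, ∀ x ∈ K₁, k * x * k⁻¹ ∈ K₁)
    (g : Γ) (hg : σ g ∈ K) (l : Γ) (hl : l ∈ liftSub σ K₁) : g * l * g⁻¹ ∈ liftSub σ K₁ := by
  have hconj : ∀ y ∈ K₁.comap σ, g * y * g⁻¹ ∈ K₁.comap σ := by
    intro y hy
    rw [Subgroup.mem_comap] at hy ⊢
    rw [map_mul, map_mul, map_inv]
    exact hnorm _ hg _ hy
  have hmap : (liftSub σ K₁).map (MulAut.conj g).toMonoidHom ≤ liftSub σ K₁ := by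
    unfold liftSub
    rw [Subgroup.map_commutator]
    apply Subgroup.commutator_mono
    · rintro _ ⟨y, hy, rfl⟩
      exact hconj y hy
    · rintro _ ⟨y, hy, rfl⟩
      exact hconj y hy
  exact hmap ⟨l, hl, rfl⟩

variable (hs : Function.Surjective σ) (hcen : σ.ker ≤ Subgroup.center Γ)
include hs hcen

/-- **the bound for the lift of a perfect normal subgroup**: `K₁` is perfect and normal in `K`
with a cyclic quotient of order prime to `p`, and the kernels that are `p`-groups of the stem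
extensions of `K` have at most `t` elements -/
theorem card_ker_liftHom_le (p a : ℕ) [hp : Fact p.Prime]
    (hkpow : ∀ c : Γ, σ c = 1 → c ^ p ^ a = 1)
    (K K₁ : Subgroup G) (hle : K₁ ≤ K) {Q : Type*} [Group Q] [IsCyclic Q] [Finite Q]
    (q : K →* Q) (hq : Function.Surjective q) (hQ : (Nat.card Q).Coprime p)
    (hK₁ : ∀ k : K, q k = 1 ↔ (k : G) ∈ K₁) (hperf : commutator K₁ = ⊤) (t : ℕ)
    (hT : ∀ (Γ' : Type u) [Group Γ'] [Finite Γ'] (σ' : Γ' →* K),
      Cfsg.IsStemExtension σ' → IsPGroup p σ'.ker → Nat.card σ'.ker ≤ t) :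
    Nat.card (liftHom σ K₁).ker ≤ t := by
  classical
  set L := liftSub σ K₁ with hL
  set n := Nat.card Q with hn
  have hnpos : 0 < n := Nat.card_pos
  -- normality
  have hnorm : ∀ k ∈ K, ∀ x ∈ K₁, k * x * k⁻¹ ∈ K₁ := by
    intro k hk x hx
    have h1 : q ⟨x, hle hx⟩ = 1 := (hK₁ _).mpr hx
    have h2 : q (⟨k, hk⟩ * ⟨x, hle hx⟩ * ⟨k, hk⟩⁻¹) = 1 := by
      rw [map_mul, map_mul, h1, mul_one, map_inv, mul_inv_cancel]
    exact (hK₁ _).mp h2
  -- a generator of the quotient and its lifts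
  obtain ⟨x, hx⟩ := IsCyclic.exists_generator (α := Q)
  obtain ⟨γ, hγ⟩ := hq x
  obtain ⟨γt, hγt⟩ := hs γ.1
  have hxn : x ^ n = 1 := pow_card_eq_one'
  have hγn : ((γ ^ n : K) : G) ∈ K₁ := by
    apply (hK₁ _).mp
    rw [map_pow, hγ, hxn]
  have hσγn : σ (γt ^ n) ∈ K₁ := by
    rw [map_pow, hγt]
    exact hγn
  obtain ⟨c, hck, hgc⟩ := exists_mul_mem_liftSub σ hs K₁ hperf (γt ^ n) hσγn
  have hc1 : σ c = 1 := MonoidHom.mem_ker.mp hck
  have hcp : c ^ p ^ a = 1 := hkpow c hc1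
  have hcop : Nat.Coprime n (orderOf c) := by
    have h1 : orderOf c ∣ p ^ a := orderOf_dvd_of_pow_eq_one hcp
    exact Nat.Coprime.coprime_dvd_right h1 (Nat.Coprime.pow_right a hQ)
  obtain ⟨mm, hmm⟩ := exists_pow_eq_self_of_coprime hcop
  set b := c ^ mm with hb
  have hbk : σ b = 1 := by rw [hb, map_pow, hc1, one_pow]
  have hbn : b ^ n = c := by
    rw [hb, ← pow_mul, mul_comm, pow_mul]; exact hmm
  have hbc : ∀ g : Γ, g * b = b * g :=
    Subgroup.mem_center_iff.mp (hcen (MonoidHom.mem_ker.mpr hbk))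
  set γ1 := γt * b with hγ1
  have hσγ1 : σ γ1 = γ.1 := by rw [hγ1, map_mul, hbk, mul_one, hγt]
  have hγ1n : γ1 ^ n ∈ L := by
    have : γ1 ^ n = γt ^ n * c := by
      have hcm : Commute γt b := hbc γt
      rw [hγ1, hcm.mul_pow, hbn]
    rw [this]; exact hgc
  have hγ1K : σ γ1 ∈ K := by rw [hσγ1]; exact γ.2
  have hγ1zK : ∀ i : ℤ, σ (γ1 ^ i) ∈ K := by
    intro i
    rw [map_zpow]
    exact K.zpow_mem hγ1K i
  -- conjugation by powers of γ1 preserves L
  have hconj : ∀ (i : ℤ) (l : Γ), l ∈ L → γ1 ^ i * l * (γ1 ^ i)⁻¹ ∈ L := by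
    intro i l hl
    exact conj_mem_liftSub σ K K₁ hnorm _ (hγ1zK i) l hl
  -- the subgroup W
  let W : Subgroup Γ :=
    { carrier := {w | ∃ l ∈ L, ∃ i : ℤ, w = l * γ1 ^ i}
      one_mem' := ⟨1, L.one_mem, 0, by simp⟩
      mul_mem' := by
        rintro _ _ ⟨l, hl, i, rfl⟩ ⟨l', hl', j, rfl⟩
        refine ⟨l * (γ1 ^ i * l' * (γ1 ^ i)⁻¹), L.mul_mem hl (hconj i l' hl'), i + j, ?_⟩
        rw [zpow_add]; group
      inv_mem' := by
        rintro _ ⟨l, hl, i, rfl⟩
        refine ⟨γ1 ^ (-i) * l⁻¹ * (γ1 ^ (-i))⁻¹, hconj (-i) _ (L.inv_mem hl), -i, ?_⟩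
        group }
  have hmemW : ∀ w : Γ, w ∈ W ↔ ∃ l ∈ L, ∃ i : ℤ, w = l * γ1 ^ i := fun w => Iff.rfl
  have hLW : L ≤ W := fun l hl => ⟨l, hl, 0, by simp⟩
  have hLK₁ : ∀ l ∈ L, σ l ∈ K₁ := fun l hl => liftSub_le σ K₁ hl
  have hWK : ∀ w ∈ W, σ w ∈ K := by
    rintro _ ⟨l, hl, i, rfl⟩
    rw [map_mul]
    exact K.mul_mem (hle (hLK₁ l hl)) (hγ1zK i)
  let σW : W →* K := (σ.comp W.subtype).codRestrict K (fun w => hWK w.1 w.2)
  have hσW : ∀ w : W, ((σW w : K) : G) = σ w.1 := fun _ => rfl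
  -- elements of W in the kernel lie in L
  have hkerL : ∀ w ∈ W, σ w = 1 → w ∈ L := by
    rintro _ ⟨l, hl, i, rfl⟩ h1
    rw [map_mul, map_zpow, hσγ1] at h1
    have h2 : (γ.1 : G) ^ i ∈ K₁ := by
      have : (γ.1 : G) ^ i = (σ l)⁻¹ := eq_inv_of_mul_eq_one_right h1
      rw [this]
      exact K₁.inv_mem (hLK₁ l hl)
    have h3 : q (γ ^ i) = 1 := by
      apply (hK₁ _).mpr
      rw [Subgroup.coe_zpow]
      exact h2
    rw [map_zpow, hγ] at h3
    have hord : orderOf x = n := orderOf_eq_card_of_forall_mem_zpowers hx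
    have h4 : (n : ℤ) ∣ i := by
      rw [← hord]
      exact orderOf_dvd_iff_zpow_eq_one.mpr h3
    obtain ⟨j, rfl⟩ := h4
    apply L.mul_mem hl
    rw [zpow_mul, zpow_natCast]
    exact L.zpow_mem hγ1n j
  -- the stem extension
  have hstem : Cfsg.IsStemExtension σW := by
    refine ⟨?_, ?_, ?_⟩
    · intro k
      obtain ⟨i, hi⟩ := Subgroup.mem_zpowers_iff.mp (hx (q k))
      have h1 : ((k * γ ^ (-i) : K) : G) ∈ K₁ := by
        apply (hK₁ _).mp
        rw [map_mul, map_zpow, hγ, ← hi, zpow_neg, mul_inv_cancel]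
      obtain ⟨l, hl, hσl⟩ := exists_liftSub_of_perfect σ hs K₁ hperf _ h1
      refine ⟨⟨l * γ1 ^ i, ⟨l, hl, i, rfl⟩⟩, ?_⟩
      apply Subtype.ext
      rw [hσW]
      show σ (l * γ1 ^ i) = k
      rw [map_mul, hσl, map_zpow, hσγ1]
      rw [Subgroup.coe_mul, Subgroup.coe_zpow, zpow_neg, inv_mul_cancel_right]
    · intro w hw
      rw [MonoidHom.mem_ker] at hw
      have h1 : σ w.1 = 1 := by
        have := congrArg Subtype.val hw
        exact this
      have h2 := Subgroup.mem_center_iff.mp (hcen (MonoidHom.mem_ker.mpr h1))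
      rw [Subgroup.mem_center_iff]
      intro g
      exact Subtype.ext (h2 g.1)
    · intro w hw
      rw [MonoidHom.mem_ker] at hw
      have h1 : σ w.1 = 1 := by
        have := congrArg Subtype.val hw
        exact this
      have h2 : w.1 ∈ L := hkerL w.1 w.2 h1
      have h3 : w.1 ∈ ⁅L, L⁆ := liftSub_perfect σ hs hcen K₁ hperf h2
      have h4 : w.1 ∈ ⁅W, W⁆ := Subgroup.commutator_mono hLW hLW h3
      rw [← Subgroup.map_subtype_commutator] at h4
      obtain ⟨w', hw', hww⟩ := h4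
      have : w' = w := Subtype.ext hww
      rw [← this]; exact hw'
  have hpk : IsPGroup p σW.ker := by
    intro w
    refine ⟨a, ?_⟩
    apply Subtype.ext
    apply Subtype.ext
    have h1 : σ (w.1 : Γ) = 1 := by
      have := w.2
      rw [MonoidHom.mem_ker] at this
      exact congrArg Subtype.val this
    exact hkpow _ h1
  have hcard := hT W σW hstem hpk
  -- the injection of the kernels
  let f : (liftHom σ K₁).ker → σW.ker := fun z =>
    ⟨⟨z.1.1, hLW z.1.2⟩, by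
      rw [MonoidHom.mem_ker]
      apply Subtype.ext
      have h1 := z.2
      rw [MonoidHom.mem_ker] at h1
      have h2 : ((liftHom σ K₁ z.1 : K₁) : G) = 1 := congrArg Subtype.val h1
      exact h2⟩
  have hf : Function.Injective f := by
    intro z z' h
    have : z.1.1 = z'.1.1 := congrArg (fun y : σW.ker => ((y : W) : Γ)) h
    exact Subtype.ext (Subtype.ext this)
  exact (Nat.card_le_card_of_injective f hf).trans hcard

end

end Cfsg.Agent.Lib.Helper4.Sparse
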