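import Cfsg.Agent.Lib.Helper4.Sparse.Main

set_option autoImplicit false

/-! # Labelled actions from tables: the data with a packed spanning tree, and its structural check -/

namespace Cfsg.Agent.Lib.Helper4.Sparse

open Cfsg.Agent.Lib.Helper1.StemSA Cfsg.Agent.Lib.Helper6.TC

/-- the letter and the parent of a point, from the packed tree: the letter in the lowest `lw` bits,
the parent above -/
noncomputable def parOf (parT : ℕ → ℕ) (lw : ℕ) (j : ℕ) : ℕ × ℕ :=
  (Nat.land (parT j) (2 ^ lw - 1), Nat.shiftRight (parT j) lw)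

/-- the data of a labelled action without power relations: `k` letters acting on `m` points by the
tables `pi`, the packed tree `parT`, the relations `rels` -/
noncomputable def mkD (k m : ℕ) (pi : ℕ → ℕ → ℕ) (parT : ℕ → ℕ) (lw : ℕ)
    (rels : List (List ℕ × List ℕ)) : SAData :=
  { k := k, m := m, pi := pi, par := parOf parT lw, ords := List.replicate k 0,
    rels := rels, specs := [], Bm := fun _ => 0 }

/-- the check of the tree at a point -/
noncomputable def chkTreeAt (k : ℕ) (pi : ℕ → ℕ → ℕ) (parT : ℕ → ℕ) (lw : ℕ) (j : ℕ) : Bool :=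
  sB (fun e => band (Nat.blt (Nat.land e (2 ^ lw - 1)) k)
    (band (Nat.blt (Nat.shiftRight e lw) j)
      (Nat.beq (pi (Nat.land e (2 ^ lw - 1)) (Nat.shiftRight e lw)) j))) (parT j)

theorem chkTreeAt_spec (k : ℕ) (pi : ℕ → ℕ → ℕ) (parT : ℕ → ℕ) (lw : ℕ) (j : ℕ)
    (h : chkTreeAt k pi parT lw j = true) :
    (parOf parT lw j).1 < k ∧ (parOf parT lw j).2 < j ∧
      pi (parOf parT lw j).1 (parOf parT lw j).2 = j := by
  unfold chkTreeAt at h
  rw [sB_eq, band_eq_true, band_eq_true, Nat.blt_eq, Nat.blt_eq] at h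
  exact ⟨h.1, h.2.1, Nat.eq_of_beq_eq_true h.2.2⟩

/-- the check of the tree on a range of points -/
noncomputable def chkTreeRange (k : ℕ) (pi : ℕ → ℕ → ℕ) (parT : ℕ → ℕ) (lw : ℕ) (lo cnt : ℕ) :
    Bool :=
  allB (fun i => chkTreeAt k pi parT lw (lo + i)) cnt

theorem chkTreeRange_spec (k : ℕ) (pi : ℕ → ℕ → ℕ) (parT : ℕ → ℕ) (lw : ℕ) (lo cnt : ℕ)
    (h : chkTreeRange k pi parT lw lo cnt = true) (j : ℕ) (h1 : lo ≤ j) (h2 : j < lo + cnt) :
    chkTreeAt k pi parT lw j = true := by
  have := allB_spec h (j - lo) (by omega)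
  have e : lo + (j - lo) = j := by omega
  rwa [e] at this

/-- the structural check of the data, from the bound on the tables, the check of the tree and the
bound on the letters of the relations -/
theorem chkStruct_mkD (k m : ℕ) (pi : ℕ → ℕ → ℕ) (parT : ℕ → ℕ) (lw : ℕ)
    (rels : List (List ℕ × List ℕ)) (hpi : ∀ i < k, ∀ j < m, pi i j < m)
    (htree : ∀ j, 1 ≤ j → j < m → chkTreeAt k pi parT lw j = true)
    (hrels : ∀ w ∈ rels, (∀ i ∈ w.1, i < k) ∧ ∀ i ∈ w.2, i < k) :
    (mkD k m pi parT lw rels).chkStruct = true := by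
  unfold SAData.chkStruct
  simp only [Bool.and_eq_true, List.all_eq_true, List.mem_range, decide_eq_true_eq,
    Bool.or_eq_true, beq_iff_eq]
  refine ⟨⟨⟨?_, ?_⟩, ?_⟩, ?_⟩
  · intro i hi j hj
    exact hpi i hi j hj
  · intro j hj
    rcases Nat.eq_zero_or_pos j with h0 | h0
    · exact Or.inl h0
    · right
      have h := chkTreeAt_spec k pi parT lw j (htree j h0 hj)
      exact ⟨⟨h.1, h.2.1⟩, h.2.2⟩
  · show (List.replicate k 0).length = k
    exact List.length_replicate
  · intro w hw
    exact hrels w hw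

theorem mkD_ords (k m : ℕ) (pi : ℕ → ℕ → ℕ) (parT : ℕ → ℕ) (lw : ℕ)
    (rels : List (List ℕ × List ℕ)) :
    ∀ i < (mkD k m pi parT lw rels).k, (mkD k m pi parT lw rels).ords.getD i 0 = 0 := by
  intro i hi
  show (List.replicate k 0).getD i 0 = 0
  have hi' : i < k := hi
  rw [List.getD_eq_getElem _ _ (by rw [List.length_replicate]; exact hi'), List.getElem_replicate]

/-- an integer matrix given by the list of its rows -/
def matOfRows (L : List (List ℤ)) (r g : ℕ) : ℤ := (L.getD r []).getD g 0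

end Cfsg.Agent.Lib.Helper4.Sparse
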