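import Cfsg.Agent.Lib.Helper1.StemSA7
import Cfsg.Agent.Lib.Helper1.StemZLin

set_option autoImplicit false

/-! # Lifts of the generators of a group to a central extension by a `p`-group, normalised so that
as many relations as generators, with a matrix of exponents invertible modulo `p`, hold exactly -/

namespace Cfsg.Agent.Lib.Helper4.Sparse

open Cfsg.Agent.Lib.Helper1.MatCode Cfsg.Agent.Lib.Helper1.StemSA Cfsg.Agent.Lib.Helper1.StemZLin

/-- a square system of linear equations, with a matrix having an inverse up to a factor prime to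
the exponent, in a commutative group -/
theorem solve_system {Z : Type*} [AddCommGroup Z] (k : ℕ) (E F : ℕ → ℕ → ℤ) (Dt : ℤ)
    (hEF : ∀ r < k, ∀ j < k, ∑ g ∈ Finset.range k, E r g * F g j = if r = j then Dt else 0)
    (N : ℕ) (hN : ∀ z : Z, N • z = 0) (hcop : IsCoprime Dt (N : ℤ)) (d : ℕ → Z) :
    ∃ a : ℕ → Z, ∀ r < k, ∑ g ∈ Finset.range k, E r g • a g = d r := by
  obtain ⟨s, t, hst⟩ := hcop
  refine ⟨fun g => ∑ j ∈ Finset.range k, (F g j * s) • d j, ?_⟩
  intro r hr
  have e1 : ∑ g ∈ Finset.range k, E r g • ∑ j ∈ Finset.range k, (F g j * s) • d j =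
      ∑ j ∈ Finset.range k, ((∑ g ∈ Finset.range k, E r g * F g j) * s) • d j := by
    simp_rw [Finset.smul_sum]
    rw [Finset.sum_comm]
    apply Finset.sum_congr rfl
    intro j _
    rw [Finset.sum_mul, Finset.sum_smul]
    apply Finset.sum_congr rfl
    intro g _
    rw [← mul_smul, mul_assoc]
  rw [e1]
  have e2 : ∑ j ∈ Finset.range k, ((∑ g ∈ Finset.range k, E r g * F g j) * s) • d j =
      ∑ j ∈ Finset.range k, (if r = j then (Dt * s) • d j else 0) := by
    apply Finset.sum_congr rfl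
    intro j hj
    rw [hEF r hr j (Finset.mem_range.mp hj)]
    split_ifs <;> simp
  rw [e2, Finset.sum_ite_eq, if_pos (Finset.mem_range.mpr hr)]
  have e3 : Dt * s = 1 - t * (N : ℤ) := by rw [← hst]; ring
  rw [e3, sub_smul, one_smul, mul_smul, natCast_zsmul, hN, smul_zero, sub_zero]

theorem wordProd_mul_central {Γ : Type*} [Group Γ] (X X' : List Γ) (a : ℕ → Γ) (k : ℕ)
    (ha : ∀ i, a i ∈ Subgroup.center Γ) (hX : ∀ i < k, X'.getD i 1 = X.getD i 1 * a i)
    (w : List ℕ) (hw : ∀ i ∈ w, i < k) :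
    wordProd X' w = wordProd X w * (w.map a).prod := by
  induction w with
  | nil => simp [wordProd_nil]
  | cons i w ih =>
    rw [wordProd_cons, wordProd_cons, ih (fun i' hi' => hw i' (List.mem_cons_of_mem _ hi')),
      hX i (hw i List.mem_cons_self), List.map_cons, List.prod_cons]
    have hc := Subgroup.mem_center_iff.mp (ha i) (wordProd X w)
    calc X.getD i 1 * a i * (wordProd X w * (w.map a).prod)
        = X.getD i 1 * (a i * wordProd X w) * (w.map a).prod := by simp only [mul_assoc]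
      _ = X.getD i 1 * (wordProd X w * a i) * (w.map a).prod := by rw [hc]
      _ = X.getD i 1 * wordProd X w * (a i * (w.map a).prod) := by simp only [mul_assoc]

/-- **normalised lifts**: lifts of the generators for which the first `k` relations hold -/
theorem exists_norm_lifts {Γ G : Type*} [Group Γ] [Group G] (σ : Γ →* G)
    (hs : Function.Surjective σ) (hcen : σ.ker ≤ Subgroup.center Γ) (N : ℕ)
    (hkpow : ∀ c : Γ, σ c = 1 → c ^ N = 1) (k : ℕ) (gs : List G)
    (rels : List (List ℕ × List ℕ))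
    (hlt : ∀ r < k, (∀ i ∈ (rels.getD r ([], [])).1, i < k) ∧
      ∀ i ∈ (rels.getD r ([], [])).2, i < k)
    (hrelG : ∀ r < k, wordProd gs (rels.getD r ([], [])).1 = wordProd gs (rels.getD r ([], [])).2)
    (E F : ℕ → ℕ → ℤ) (Dt : ℤ)
    (hE : ∀ r < k, ∀ g < k, E r g = ((rels.getD r ([], [])).1.count g : ℤ) -
      ((rels.getD r ([], [])).2.count g : ℤ))
    (hEF : ∀ r < k, ∀ j < k, ∑ g ∈ Finset.range k, E r g * F g j = if r = j then Dt else 0)
    (hcop : IsCoprime Dt (N : ℤ)) :
    ∃ X : List Γ, (∀ i < k, σ (X.getD i 1) = gs.getD i 1) ∧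
      ∀ r < k, wordProd X (rels.getD r ([], [])).1 = wordProd X (rels.getD r ([], [])).2 := by
  classical
  have hx0 : ∀ i : ℕ, ∃ x : Γ, σ x = gs.getD i 1 := fun i => hs _
  choose x0 hx0 using hx0
  set X0 : List Γ := (List.range k).map x0 with hX0
  have hX0get : ∀ i < k, X0.getD i 1 = x0 i := by
    intro i hi
    have : i < X0.length := by simp [X0, hi]
    rw [List.getD_eq_getElem _ _ this]
    simp [X0]
  have hσX0 : ∀ i < k, σ (X0.getD i 1) = gs.getD i 1 := by
    intro i hi
    rw [hX0get i hi]; exact hx0 i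
  -- the defects of the relations
  have hdker : ∀ r < k, wordProd X0 (rels.getD r ([], [])).1 *
      (wordProd X0 (rels.getD r ([], [])).2)⁻¹ ∈ σ.ker := by
    intro r hr
    rw [MonoidHom.mem_ker, map_mul, map_inv, sigma_wordProd σ X0 gs k hσX0 _ (hlt r hr).1,
      sigma_wordProd σ X0 gs k hσX0 _ (hlt r hr).2, hrelG r hr, mul_inv_cancel]
  letI : CommGroup σ.ker :=
    { (inferInstance : Group σ.ker) with
      mul_comm := fun x y => Subtype.ext (by
        show x.1 * y.1 = y.1 * x.1
        exact Subgroup.mem_center_iff.mp (hcen y.2) x.1) }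
  let dZ : ℕ → Additive σ.ker := fun r =>
    if hr : r < k then Additive.ofMul ⟨_, hdker r hr⟩ else 0
  have hNZ : ∀ z : Additive σ.ker, N • z = 0 := by
    intro z
    obtain ⟨y, rfl⟩ := Additive.ofMul.surjective z
    rw [← ofMul_pow]
    have : y ^ N = 1 := Subtype.ext (hkpow y.1 (MonoidHom.mem_ker.mp y.2))
    rw [this]; rfl
  obtain ⟨a, ha⟩ := solve_system k E F Dt hEF N hNZ hcop (fun r => -dZ r)
  let aΓ : ℕ → Γ := fun i => ((Additive.toMul (a i) : σ.ker) : Γ)
  have haΓc : ∀ i, aΓ i ∈ Subgroup.center Γ := fun i => hcen (Additive.toMul (a i)).2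
  have haΓk : ∀ i, σ (aΓ i) = 1 := fun i => MonoidHom.mem_ker.mp (Additive.toMul (a i)).2
  set X : List Γ := (List.range k).map (fun i => x0 i * aΓ i) with hXdef
  have hXget : ∀ i < k, X.getD i 1 = X0.getD i 1 * aΓ i := by
    intro i hi
    have : i < X.length := by simp [X, hi]
    rw [List.getD_eq_getElem _ _ this, hX0get i hi]
    simp [X]
  refine ⟨X, ?_, ?_⟩
  · intro i hi
    rw [hXget i hi, map_mul, haΓk, mul_one, hσX0 i hi]
  · intro r hr
    obtain ⟨h1, h2⟩ := hlt r hr
    set w1 := (rels.getD r ([], [])).1 with hw1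
    set w2 := (rels.getD r ([], [])).2 with hw2
    rw [wordProd_mul_central X0 X aΓ k haΓc hXget w1 h1,
      wordProd_mul_central X0 X aΓ k haΓc hXget w2 h2]
    -- the products of the corrections
    have hprod : ∀ w : List ℕ, (w.map aΓ).prod =
        ((Additive.toMul ((w.map a).sum) : σ.ker) : Γ) := by
      intro w
      induction w with
      | nil => simp
      | cons i w ih =>
        rw [List.map_cons, List.prod_cons, ih, List.map_cons, List.sum_cons, toMul_add,
          Subgroup.coe_mul]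
    rw [hprod, hprod, sum_map_eq k a w1 h1, sum_map_eq k a w2 h2]
    have hsub : (∑ c ∈ Finset.range k, (w1.count c : ℤ) • a c) -
        ∑ c ∈ Finset.range k, (w2.count c : ℤ) • a c = -dZ r := by
      rw [← ha r hr, ← Finset.sum_sub_distrib]
      apply Finset.sum_congr rfl
      intro g hg
      rw [hE r hr g (Finset.mem_range.mp hg), sub_smul]
    set S1 := ∑ c ∈ Finset.range k, (w1.count c : ℤ) • a c with hS1
    set S2 := ∑ c ∈ Finset.range k, (w2.count c : ℤ) • a c with hS2
    have hS : S1 = S2 - dZ r := by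
      have h' := hsub
      rw [sub_eq_iff_eq_add] at h'
      rw [h']; abel
    have hdZ : dZ r = Additive.ofMul ⟨_, hdker r hr⟩ := by
      simp only [dZ, dif_pos hr]
    rw [hS, hdZ, toMul_sub, toMul_ofMul, Subgroup.coe_div]
    set W1 := wordProd X0 w1 with hW1
    set W2 := wordProd X0 w2 with hW2
    set A2 : Γ := ((Additive.toMul S2 : σ.ker) : Γ) with hA2
    show W1 * (A2 / (W1 * W2⁻¹)) = W2 * A2
    have hc : ∀ g : Γ, g * A2 = A2 * g :=
      Subgroup.mem_center_iff.mp (hcen (Additive.toMul S2).2)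
    have hd : ∀ g : Γ, g * (W1 * W2⁻¹) = (W1 * W2⁻¹) * g :=
      Subgroup.mem_center_iff.mp (hcen (hdker r hr))
    have hW : W1 * (W1 * W2⁻¹)⁻¹ = W2 := by
      have h' := Subgroup.mem_center_iff.mp
        (Subgroup.inv_mem _ (hcen (hdker r hr))) W1
      calc W1 * (W1 * W2⁻¹)⁻¹ = (W1 * W2⁻¹)⁻¹ * W1 := h'
        _ = W2 := by group
    have e : A2 / (W1 * W2⁻¹) = (W1 * W2⁻¹)⁻¹ * A2 := by
      rw [div_eq_mul_inv]
      exact (hc _).symm
    rw [e, ← mul_assoc, hW]

end Cfsg.Agent.Lib.Helper4.Sparse
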