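import Cfsg.Agent.Lib.Helper4.Sparse.Bound

set_option autoImplicit false

/-! # The sparse certificate: the main theorem -/

namespace Cfsg.Agent.Lib.Helper4.Sparse

open Cfsg.Agent.Lib.Helper1.StemSA Cfsg.Agent.Lib.Helper1.StemZA Cfsg.Agent.Lib.Helper1.StemZLin
open Cfsg.Agent.Lib.Helper6.TC

universe u

theorem chkResid_fields (D : SAData) (C : SCert) (r j R : ℕ) (h : chkResid D C r j R = true) :
    ∀ s < C.T, fld C.W s R ≤ C.c := by
  unfold chkResid at h
  rw [band_eq_true, band_eq_true, band_eq_true, band_eq_true] at h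
  exact C.fieldsLe_spec h.2.2.2.1

/-- **the bound from a sparse certificate**: the entries of all the unknowns pass the check, and
combinations of residual relations give the relations `p ^ E • f₀ = 0` and `f_i = c_i • f₀`
between the distinguished unknowns -/
theorem valsBoundN_of_cert (D : SAData) (C : SCert) (p E : ℕ) (hp : p.Prime)
    (hS : D.chkStruct = true) (hCq : C.q = p ^ (E + 1))
    (hall : ∀ b < D.n, chkU D C b = true)
    (hlen : ∀ w ∈ D.rels, (w.1.length + (w.2.length + 2)) * C.c < 2 ^ C.W)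
    (hcW : C.c < 2 ^ C.W) (hW : 0 < C.W) (hT : 0 < C.T) (hgs : ∀ t < C.T, C.gs t < D.n)
    (res : List (ℕ × ℕ × ℕ)) (hres : ∀ x ∈ res, chkResid D C x.1 x.2.1 x.2.2 = true)
    (tgt : ℕ → ℕ) (comb : ℕ → List ℕ)
    (h0 : fld C.W 0 (tgt 0) = p ^ E) (h0' : ∀ t < C.T, 0 < t → fld C.W t (tgt 0) = 0)
    (hi : ∀ i < C.T, 0 < i → fld C.W i (tgt i) = 1)
    (hi' : ∀ i < C.T, 0 < i → ∀ t < C.T, 0 < t → t ≠ i → fld C.W t (tgt i) = 0)
    (hcomb : ∀ i < C.T, (∀ l ∈ comb i, l < res.length) ∧ (comb i).length * C.c < 2 ^ C.W ∧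
      C.congB ((comb i).map (fun l => (res.getD l (0, 0, 0)).2.2)).sum (tgt i) = true) :
    ValsBoundN.{u} D p E C.nn := by
  intro M _ _ v hEv hnv a ha
  set P := valSpanQ v D.n (p ^ (E + 1)) with hP
  set u : ℕ → M ⧸ P := fun b => (QuotientAddGroup.mk (v b) : M ⧸ P) with hu
  have hmk : ∀ L : List ℕ, (L.map u).sum = (QuotientAddGroup.mk' P) (L.map v).sum := by
    intro L
    rw [map_list_sum, List.map_map]
    rfl
  have hEu : ∀ s : ℕ × ℕ, D.chkSpec s = true → sgnSum u (posL D s) (negL D s) = 0 := by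
    intro s hs
    have := hEv s hs
    unfold sgnSum at this ⊢
    rw [hmk, hmk, ← map_sub, this, map_zero]
  have hnu : ∀ r < C.nn, u (D.k * D.m + r) = 0 := by
    intro r hr
    show (QuotientAddGroup.mk (v (D.k * D.m + r)) : M ⧸ P) = 0
    rw [hnv r hr]
    rfl
  have hqall : ∀ b < D.n, C.q • u b = 0 := by
    intro b hb
    show C.q • (QuotientAddGroup.mk (v b) : M ⧸ P) = 0
    rw [← QuotientAddGroup.mk_nsmul, QuotientAddGroup.eq_zero_iff, hP, mem_valSpanQ, hCq]
    exact ⟨v b, AddSubgroup.subset_closure ⟨b, hb, rfl⟩, rfl⟩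
  have hqu : ∀ t < C.T, C.q • u (C.gs t) = 0 := fun t ht => hqall _ (hgs t ht)
  have hq1 : 1 ≤ C.q := by
    rw [hCq]
    exact Nat.one_le_pow _ _ hp.pos
  have hlen1 : ∀ w ∈ D.rels, (w.1.length + (w.2.length + 1)) * C.c < 2 ^ C.W := by
    intro w hw
    have h1 := hlen w hw
    have : (w.1.length + (w.2.length + 1)) * C.c ≤ (w.1.length + (w.2.length + 2)) * C.c :=
      Nat.mul_le_mul_right _ (by omega)
    omega
  have hgood := good_all D C u hS hEu hnu hqall hgs hq1 hlen1 hcW hW hall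
  have hfl : ∀ x < D.n, ∀ s < C.T, fld C.W s (C.val x) ≤ C.c := by
    intro x hx
    have h := hall x hx
    unfold chkU at h
    rw [sB_eq, band_eq_true] at h
    exact C.fieldsLe_spec h.1
  have hresv : ∀ x ∈ res, vecOf u C.W C.T C.gs x.2.2 = 0 := by
    intro x hx
    exact vecOf_resid D C u hS hEu hqu hlen x.1 x.2.1 x.2.2 (hres x hx) hgood hfl
  have htg : ∀ i < C.T, vecOf u C.W C.T C.gs (tgt i) = 0 := by
    intro i hi
    obtain ⟨hl, hc, hcg⟩ := hcomb i hi
    have hmemres : ∀ l ∈ comb i, res.getD l (0, 0, 0) ∈ res := by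
      intro l hl'
      rw [List.getD_eq_getElem _ _ (hl l hl')]
      exact List.getElem_mem _
    set Rs := (comb i).map (fun l => (res.getD l (0, 0, 0)).2.2) with hRs
    have h1 : vecOf u C.W C.T C.gs Rs.sum = (Rs.map (vecOf u C.W C.T C.gs)).sum := by
      apply vecOf_list_sum u C.W C.T C.gs C.c
      · intro y hy
        rw [hRs] at hy
        obtain ⟨l, hl', rfl⟩ := List.mem_map.mp hy
        have hm := hmemres l hl'
        exact chkResid_fields D C _ _ _ (hres _ hm)
      · rw [hRs, List.length_map]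
        exact hc
    have h2 : (Rs.map (vecOf u C.W C.T C.gs)).sum = 0 := by
      apply List.sum_eq_zero
      intro z hz
      obtain ⟨y, hy, rfl⟩ := List.mem_map.mp hz
      rw [hRs] at hy
      obtain ⟨l, hl', rfl⟩ := List.mem_map.mp hy
      exact hresv _ (hmemres l hl')
    rw [← vecOf_congr_mod u C.W C.T C.gs C.q hqu _ _ (C.congB_spec hcg), h1, h2]
  obtain ⟨hpE, hmul⟩ := targets u C.W C.T C.gs (p ^ E) tgt hT h0 h0' hi hi' htg
  have hpa : ∀ x : M, (p ^ a) • x = 0 := by
    intro x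
    have := ha x
    rw [← natCast_zsmul]
    push_cast
    exact this
  apply card_le_of_quot p E a D.n hp v hpa (C.gs 0) (hgs 0 hT)
  · intro b hb
    show u b ∈ AddSubgroup.zmultiples (u (C.gs 0))
    rw [hgood b hb]
    exact vecOf_mem u C.W C.T C.gs _ hmul _
  · exact hpE

end Cfsg.Agent.Lib.Helper4.Sparse
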