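import Cfsg.Agent.Lib.Helper4.Sparse.Sound

set_option autoImplicit false

/-! # The sparse certificate: the bound on the group of the values of the unknowns -/

namespace Cfsg.Agent.Lib.Helper4.Sparse

open Cfsg.Agent.Lib.Helper1.StemSA Cfsg.Agent.Lib.Helper1.StemZA Cfsg.Agent.Lib.Helper1.StemZLin
open Cfsg.Agent.Lib.Helper6.TC

universe u

/-- every family of values, in a finite commutative group killed by a power of `p`, that satisfies
the equations and vanishes on the first `nn` relations, lies in a subgroup of order at most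
`p ^ E` (the variant with normalised relations of `StemZP.ValsBound` of helper1) -/
def ValsBoundN (D : SAData) (p E nn : ℕ) : Prop :=
  ∀ (M : Type u) [AddCommGroup M] [Finite M] (v : ℕ → M),
    (∀ s : ℕ × ℕ, D.chkSpec s = true → sgnSum v (posL D s) (negL D s) = 0) →
    (∀ r < nn, v (D.k * D.m + r) = 0) →
    ∀ a : ℕ, (∀ x : M, ((p : ℤ) ^ a) • x = 0) →
    ∃ A₀ : AddSubgroup M, (∀ b < D.n, v b ∈ A₀) ∧ Nat.card A₀ ≤ p ^ E

section resid

variable (D : SAData) (C : SCert)

/-- the check of a residual relation: the equation of the relation `r` at the point `j` holds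
for the packed vectors up to the packed vector `R` -/
noncomputable def chkResid (r j R : ℕ) : Bool :=
  band (Nat.ble D.k r) (band (Nat.blt (r - D.k) D.rels.length) (band (Nat.blt j D.m)
    (band (C.fieldsLe R)
    (walkC D.m D.pi C.ent C.valE (fun _ _ => 0) (D.rels.getD (r - D.k) ([], [])).1.reverse
      (fun p1 S1 _ =>
        walkC D.m D.pi C.ent C.valE (fun _ _ => 0) (D.rels.getD (r - D.k) ([], [])).2.reverse
          (fun p2 S2 _ =>
            sB (fun e => band (Nat.beq p1 p2) (C.congB S1 (S2 + C.valE e + R)))
              (C.ent (D.k * D.m + (r - D.k))))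
          j 0 0)
      j 0 0))))

variable {A : Type*} [AddCommGroup A] (u : ℕ → A)
  (hS : D.chkStruct = true)
  (hE : ∀ s : ℕ × ℕ, D.chkSpec s = true → sgnSum u (posL D s) (negL D s) = 0)
  (hq : ∀ t < C.T, C.q • u (C.gs t) = 0)
  (hlen : ∀ w ∈ D.rels, (w.1.length + (w.2.length + 2)) * C.c < 2 ^ C.W)

include hS hE hq hlen in
theorem vecOf_resid (r j R : ℕ) (h : chkResid D C r j R = true)
    (hgood : ∀ x < D.n, u x = vecOf u C.W C.T C.gs (C.val x))
    (hfl : ∀ x < D.n, ∀ s < C.T, fld C.W s (C.val x) ≤ C.c) :
    vecOf u C.W C.T C.gs R = 0 := by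
  unfold chkResid at h
  rw [band_eq_true, band_eq_true, band_eq_true, band_eq_true, walkC_eq, walkC_eq, sB_eq,
    band_eq_true] at h
  obtain ⟨hk, hr, hj, hRf, hp, hcong⟩ := h
  have hk : D.k ≤ r := Nat.le_of_ble_eq_true hk
  have hr : r - D.k < D.rels.length := by simpa [Nat.blt] using hr
  have hj : j < D.m := by simpa [Nat.blt] using hj
  have hRf := C.fieldsLe_spec hRf
  have hp := Nat.eq_of_beq_eq_true hp
  have hcong := C.congB_spec hcong
  simp only [Nat.zero_add] at hp hcong
  set w := D.rels.getD (r - D.k) ([], []) with hw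
  have hmem : w ∈ D.rels := by
    rw [hw, List.getD_eq_getElem _ _ hr]; exact List.getElem_mem _
  obtain ⟨hw1, hw2⟩ := rels_lt D hS w hmem
  set xe := D.k * D.m + (r - D.k) with hxe
  set pos := edgesR D.m D.pi w.1.reverse j with hpos
  set neg := edgesR D.m D.pi w.2.reverse j ++ [xe] with hneg
  have hrel : D.relW r = w := by
    unfold SAData.relW
    rw [if_neg (by omega)]
  have hspec : D.chkSpec (r + 1, j) = true := by
    unfold SAData.chkSpec
    simp only [Bool.and_eq_true, decide_eq_true_eq, beq_iff_eq]
    refine ⟨hj, by omega, ?_⟩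
    rw [hrel, actW_eq_endR, actW_eq_endR]
    exact hp
  have hEq : sgnSum u pos neg = 0 := by
    have := hE (r + 1, j) hspec
    unfold sgnSum at this ⊢
    have e1 : posL D (r + 1, j) = D.edgesW (D.relW r).1 j := rfl
    have e2 : negL D (r + 1, j) = D.edgesW (D.relW r).2 j ++
        (if r < D.k then [] else [D.k * D.m + (r - D.k)]) := rfl
    rw [e1, e2, hrel, if_neg (by omega), sum_edgesW, List.map_append, List.sum_append,
      sum_edgesW] at this
    rw [hpos, hneg, List.map_append, List.sum_append]
    exact this
  have hxe_lt : xe < D.n := by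
    unfold SAData.n
    omega
  have hrange : ∀ x ∈ pos ++ neg, x < D.n := by
    intro x hx
    have hkm : D.k * D.m ≤ D.n := by unfold SAData.n; omega
    rcases List.mem_append.mp hx with h1 | h1
    · have := (edgesR_lt D hS w.1.reverse (fun i hi => hw1 i (List.mem_reverse.mp hi)) j hj).2 x h1
      omega
    · rw [hneg] at h1
      rcases List.mem_append.mp h1 with h2 | h2
      · have := (edgesR_lt D hS w.2.reverse (fun i hi => hw2 i (List.mem_reverse.mp hi)) j hj).2
          x h2
        omega
      · rw [List.mem_singleton] at h2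
        rw [h2]; exact hxe_lt
  have hl := hlen w hmem
  have hnl : neg.length = w.2.length + 1 := by
    rw [hneg, List.length_append, edgesR_length, List.length_reverse, List.length_singleton]
  have hpl : pos.length = w.1.length := by
    rw [hpos, edgesR_length, List.length_reverse]
  have hcpos : 0 < 2 ^ C.W := by positivity
  have hnegsum : (neg.map C.val).sum =
      ((edgesR D.m D.pi w.2.reverse j).map (fun x => C.valE (C.ent x))).sum +
        C.valE (C.ent xe) := by
    rw [hneg, List.map_append, List.sum_append, List.map_singleton, List.sum_singleton]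
    rfl
  have hfn : ∀ s < C.T, fld C.W s (neg.map C.val).sum ≤ (w.2.length + 1) * C.c := by
    intro s hs
    have h1 := (fld_list_sum C.W C.c (neg.map C.val) s (by
      intro y hy r' hr'
      obtain ⟨x, hx, rfl⟩ := List.mem_map.mp hy
      exact hfl x (hrange x (List.mem_append_right _ hx)) r' (by omega)) (by
      rw [List.length_map, hnl]
      have : (w.2.length + 1) * C.c ≤ (w.1.length + (w.2.length + 2)) * C.c :=
        Nat.mul_le_mul_right _ (by omega)
      omega) s le_rfl).2
    rwa [List.length_map, hnl] at h1
  have h3 : (w.2.length + 1) * C.c + C.c ≤ (w.1.length + (w.2.length + 2)) * C.c := by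
    have : (w.2.length + 1) * C.c + C.c = (w.2.length + 2) * C.c := by ring
    rw [this]
    exact Nat.mul_le_mul_right _ (by omega)
  have hRadd : ∀ t < C.T, fld C.W t ((neg.map C.val).sum + R) =
      fld C.W t (neg.map C.val).sum + fld C.W t R := by
    intro t ht
    apply fld_add
    intro s hs
    have h1 := hfn s (by omega)
    have h2 := hRf s (by omega)
    omega
  have hlen' : (pos.length + neg.length) * C.c < 2 ^ C.W := by
    rw [hpl, hnl]
    have : (w.1.length + (w.2.length + 1)) * C.c ≤ (w.1.length + (w.2.length + 2)) * C.c :=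
      Nat.mul_le_mul_right _ (by omega)
    omega
  apply resid_of_eq u C.W C.T C.gs C.q C.c C.val hq pos neg hEq
    (fun x hx => hgood x (hrange x hx)) (fun x hx => hfl x (hrange x hx)) hlen' R _ hRadd
  intro t ht
  rw [← hRadd t ht, hnegsum]
  exact hcong t ht

end resid

end Cfsg.Agent.Lib.Helper4.Sparse
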