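import Cfsg.Agent.Lib.Helper4.Sparse.Walk

set_option autoImplicit false

/-! # The sparse certificate: one entry for each unknown (packed vector, rank, deducing equation),
its check and the values of the unknowns -/

namespace Cfsg.Agent.Lib.Helper4.Sparse

open Cfsg.Agent.Lib.Helper1.StemSA Cfsg.Agent.Lib.Helper1.StemZA Cfsg.Agent.Lib.Helper1.StemZLin
open Cfsg.Agent.Lib.Helper6.TC

/-- the certificate: the modulus `q`, `T` distinguished unknowns `gs t`, packed vectors of `T`
fields of `W` bits, all at most `c`; the entry of an unknown consists of the code of its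
deducing equation (`eW` bits), its rank (`rW` bits) and its packed vector; the first `nn`
relations are normalised -/
structure SCert where
  q : ℕ
  T : ℕ
  W : ℕ
  c : ℕ
  eW : ℕ
  rW : ℕ
  ent : ℕ → ℕ
  gs : ℕ → ℕ
  nn : ℕ

namespace SCert

variable (C : SCert)

/-- the code of the equation in an entry -/
def eqE (e : ℕ) : ℕ := e % 2 ^ C.eW
/-- the rank in an entry -/
def rkE (e : ℕ) : ℕ := e / 2 ^ C.eW % 2 ^ C.rW
/-- the packed vector in an entry -/
def valE (e : ℕ) : ℕ := e / 2 ^ (C.eW + C.rW)

/-- the rank of an unknown -/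
def rk (x : ℕ) : ℕ := C.rkE (C.ent x)
/-- the packed vector of an unknown -/
def val (x : ℕ) : ℕ := C.valE (C.ent x)

/-- the flag of an unknown met in the equation deducing `b`, of rank `rb` -/
noncomputable def flagE (b rb x e : ℕ) : ℕ :=
  cond (Nat.beq x b) 1 (cond (Nat.blt (C.rkE e) rb) 0 65536)

/-- the fields of a packed vector are at most `c` -/
noncomputable def fieldsLe (X : ℕ) : Bool := allB (fun t => Nat.ble (fld C.W t X) C.c) C.T

/-- two packed vectors are congruent modulo `q` -/
noncomputable def congB (X Y : ℕ) : Bool :=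
  allB (fun t => Nat.beq (fld C.W t X % C.q) (fld C.W t Y % C.q)) C.T

theorem fieldsLe_spec {X : ℕ} (h : C.fieldsLe X = true) : ∀ t < C.T, fld C.W t X ≤ C.c := by
  intro t ht
  have := allB_spec h t ht
  exact Nat.le_of_ble_eq_true this

theorem congB_spec {X Y : ℕ} (h : C.congB X Y = true) :
    ∀ t < C.T, fld C.W t X % C.q = fld C.W t Y % C.q := by
  intro t ht
  have := allB_spec h t ht
  exact Nat.eq_of_beq_eq_true this

end SCert

section check

variable (D : SAData) (C : SCert)

/-- the check of the equation of a general relation -/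
noncomputable def chkRel (b rb r j : ℕ) : Bool :=
  band (Nat.ble D.k r) (band (Nat.blt (r - D.k) D.rels.length) (band (Nat.blt j D.m)
    (walkC D.m D.pi C.ent C.valE (C.flagE b rb) (D.rels.getD (r - D.k) ([], [])).1.reverse
      (fun p1 S1 bad1 =>
        walkC D.m D.pi C.ent C.valE (C.flagE b rb) (D.rels.getD (r - D.k) ([], [])).2.reverse
          (fun p2 S2 bad2 =>
            sB (fun e => band (Nat.beq p1 p2) (band (Nat.blt bad1 65536) (band
              (Nat.blt (bad2 + C.flagE b rb (D.k * D.m + (r - D.k)) e) 65536) (band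
              (Nat.beq (Nat.gcd (bad1 + (C.q - 1) *
                (bad2 + C.flagE b rb (D.k * D.m + (r - D.k)) e)) C.q) 1)
              (C.congB S1 (S2 + C.valE e)))))) (C.ent (D.k * D.m + (r - D.k))))
          j 0 0)
      j 0 0)))

/-- the check of the equation of an edge of the tree -/
noncomputable def chkTree (b vb j : ℕ) : Bool :=
  band (Nat.blt 0 j) (band (Nat.blt j D.m)
    (band (Nat.beq ((D.par j).1 * D.m + (D.par j).2) b) (C.congB vb 0)))

/-- the check of the equation with the code `s1 * m + j` -/
noncomputable def chkEq (b vb rb s1 j : ℕ) : Bool :=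
  Nat.rec (motive := fun _ => Bool) (chkTree D C b vb j) (fun r _ => chkRel D C b rb r j) s1

/-- the first code which is not the code of an equation -/
def topCode : ℕ := (D.k + D.rels.length + 1) * D.m

/-- the check of the entry of an unknown -/
noncomputable def chkCode (b vb rb code : ℕ) : Bool :=
  cond (Nat.blt code (topCode D))
    (chkEq D C b vb rb (code / D.m) (code % D.m))
    (cond (Nat.beq code (topCode D))
      (band (Nat.ble (D.k * D.m) b) (band (Nat.blt b (D.k * D.m + C.nn)) (Nat.beq vb 0)))
      (band (Nat.blt (code - topCode D - 1) C.T)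
        (band (Nat.beq (C.gs (code - topCode D - 1)) b)
          (Nat.beq vb (2 ^ (C.W * (code - topCode D - 1)))))))

/-- the check of an unknown -/
noncomputable def chkU (b : ℕ) : Bool :=
  sB (fun e => band (C.fieldsLe (C.valE e)) (chkCode D C b (C.valE e) (C.rkE e) (C.eqE e)))
    (C.ent b)

/-- the check of a range of unknowns -/
noncomputable def chkURange (lo cnt : ℕ) : Bool := allB (fun i => chkU D C (lo + i)) cnt

theorem chkURange_spec (lo cnt : ℕ) (h : chkURange D C lo cnt = true) (b : ℕ) (h1 : lo ≤ b)
    (h2 : b < lo + cnt) : chkU D C b = true := by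
  have := allB_spec h (b - lo) (by omega)
  have e : lo + (b - lo) = b := by omega
  rwa [e] at this

end check

section sound

variable (D : SAData) (C : SCert) {A : Type*} [AddCommGroup A] (u : ℕ → A)

theorem fld_zero (W t : ℕ) : fld W t 0 = 0 := by simp [fld]

theorem fld_two_pow (W : ℕ) (hW : 0 < W) (t s : ℕ) :
    fld W s (2 ^ (W * t)) = if s = t then 1 else 0 := by
  unfold fld
  have h1 : 1 < 2 ^ W := Nat.one_lt_two_pow (by omega)
  split_ifs with h
  · subst h
    rw [Nat.div_self (by positivity), Nat.mod_eq_of_lt h1]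
  · rcases Nat.lt_or_gt_of_ne h with h' | h'
    · -- s < t
      have e : W * t = W * s + W * (t - s) := by rw [← Nat.mul_add]; congr 1; omega
      rw [e, pow_add, Nat.mul_div_cancel_left _ (by positivity)]
      have e2 : W * (t - s) = W + W * (t - s - 1) := by
        have : t - s = 1 + (t - s - 1) := by omega
        rw [this, Nat.mul_add, Nat.mul_one]
        congr 2
        omega
      rw [e2, pow_add, Nat.mul_mod_right]
    · -- t < s
      have : 2 ^ (W * t) < 2 ^ (W * s) :=
        Nat.pow_lt_pow_right (by omega) (Nat.mul_lt_mul_of_pos_left h' hW)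
      rw [Nat.div_eq_of_lt this, Nat.zero_mod]

theorem vecOf_two_pow (hW : 0 < C.W) (t : ℕ) (ht : t < C.T) :
    vecOf u C.W C.T C.gs (2 ^ (C.W * t)) = u (C.gs t) := by
  unfold vecOf
  rw [Finset.sum_eq_single t]
  · rw [fld_two_pow C.W hW, if_pos rfl, one_smul]
  · intro s _ hs
    rw [fld_two_pow C.W hW, if_neg hs, zero_smul]
  · intro h
    exact absurd (Finset.mem_range.mpr ht) h

variable (hS : D.chkStruct = true)
  (hE : ∀ s : ℕ × ℕ, D.chkSpec s = true → sgnSum u (posL D s) (negL D s) = 0)
  (hnorm : ∀ r < C.nn, u (D.k * D.m + r) = 0)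
  (hqall : ∀ b < D.n, C.q • u b = 0) (hgs : ∀ t < C.T, C.gs t < D.n) (hq1 : 1 ≤ C.q)
  (hlen : ∀ w ∈ D.rels, (w.1.length + (w.2.length + 1)) * C.c < 2 ^ C.W)
  (hcW : C.c < 2 ^ C.W) (hW : 0 < C.W)

include hS in
theorem edgesR_lt (w : List ℕ) (hw : ∀ i ∈ w, i < D.k) (j : ℕ) (hj : j < D.m) :
    endR D.pi w j < D.m ∧ ∀ x ∈ edgesR D.m D.pi w j, x < D.k * D.m := by
  induction w generalizing j with
  | nil => exact ⟨hj, by simp [edgesR]⟩
  | cons i w ih =>
    have hi : i < D.k := hw i List.mem_cons_self
    have h1 := pi_lt D hS i j hi hj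
    obtain ⟨h2, h3⟩ := ih (fun i' hi' => hw i' (List.mem_cons_of_mem _ hi')) _ h1
    refine ⟨h2, ?_⟩
    intro x hx
    simp only [edgesR, List.mem_cons] at hx
    rcases hx with rfl | hx
    · calc i * D.m + j < i * D.m + D.m := by omega
        _ = (i + 1) * D.m := by ring
        _ ≤ D.k * D.m := Nat.mul_le_mul_right _ hi
    · exact h3 x hx

include hS hE hqall hgs hq1 hlen in
/-- the step for the equation of a relation -/
theorem good_of_chkRel (b r j : ℕ) (hbn : b < D.n) (h : chkRel D C b (C.rk b) r j = true)
    (ih : ∀ x < D.n, C.rk x < C.rk b → u x = vecOf u C.W C.T C.gs (C.val x))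
    (hfl : ∀ x < D.n, ∀ s < C.T, fld C.W s (C.val x) ≤ C.c) :
    u b = vecOf u C.W C.T C.gs (C.val b) := by
  unfold chkRel at h
  rw [band_eq_true, band_eq_true, band_eq_true, walkC_eq, walkC_eq, sB_eq, band_eq_true,
    band_eq_true, band_eq_true, band_eq_true] at h
  obtain ⟨hk, hr, hj, hp, hbad1, hbad2, hgcd, hcong⟩ := h
  have hk : D.k ≤ r := Nat.le_of_ble_eq_true hk
  have hr : r - D.k < D.rels.length := by simpa [Nat.blt] using hr
  have hj : j < D.m := by simpa [Nat.blt] using hj
  have hp := Nat.eq_of_beq_eq_true hp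
  rw [Nat.blt_eq] at hbad1 hbad2
  have hgcd := Nat.eq_of_beq_eq_true hgcd
  have hcong := C.congB_spec hcong
  simp only [Nat.zero_add] at hp hbad1 hbad2 hgcd hcong
  set w := D.rels.getD (r - D.k) ([], []) with hw
  have hmem : w ∈ D.rels := by
    rw [hw, List.getD_eq_getElem _ _ hr]; exact List.getElem_mem _
  obtain ⟨hw1, hw2⟩ := rels_lt D hS w hmem
  set xe := D.k * D.m + (r - D.k) with hxe
  set pos := edgesR D.m D.pi w.1.reverse j with hpos
  set neg := edgesR D.m D.pi w.2.reverse j ++ [xe] with hneg
  set flag : ℕ → ℕ := fun x => C.flagE b (C.rk b) x (C.ent x) with hflag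
  have hrel : D.relW r = w := by
    unfold SAData.relW
    rw [if_neg (by omega)]
  -- the equation
  have hspec : D.chkSpec (r + 1, j) = true := by
    unfold SAData.chkSpec
    simp only [Bool.and_eq_true, decide_eq_true_eq, beq_iff_eq]
    refine ⟨hj, by omega, ?_⟩
    rw [hrel, actW_eq_endR, actW_eq_endR]
    exact hp
  have hEq : sgnSum u pos neg = 0 := by
    have := hE (r + 1, j) hspec
    unfold sgnSum at this ⊢
    have e1 : posL D (r + 1, j) = D.edgesW (D.relW r).1 j := rfl
    have e2 : negL D (r + 1, j) = D.edgesW (D.relW r).2 j ++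
        (if r < D.k then [] else [D.k * D.m + (r - D.k)]) := rfl
    rw [e1, e2, hrel, if_neg (by omega), sum_edgesW, List.map_append, List.sum_append,
      sum_edgesW] at this
    rw [hpos, hneg, List.map_append, List.sum_append]
    exact this
  -- the flags
  have hsum2 : (neg.map flag).sum = ((edgesR D.m D.pi w.2.reverse j).map flag).sum +
      flag xe := by
    rw [hneg, List.map_append, List.sum_append, List.map_singleton, List.sum_singleton]
  have hfb : flag b = 1 := by
    show C.flagE b (C.rk b) b (C.ent b) = 1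
    unfold SCert.flagE
    rw [Nat.beq_refl]
    rfl
  have hfne : ∀ x, x ≠ b → flag x = 0 ∨ 65536 ≤ flag x := by
    intro x hx
    show C.flagE b (C.rk b) x (C.ent x) = 0 ∨ 65536 ≤ C.flagE b (C.rk b) x (C.ent x)
    unfold SCert.flagE
    have : Nat.beq x b = false := by
      cases hbq : Nat.beq x b with
      | false => rfl
      | true => exact absurd (Nat.eq_of_beq_eq_true hbq) hx
    rw [this]
    cases Nat.blt (C.rkE (C.ent x)) (C.rk b) with
    | false => right; exact le_rfl
    | true => left; rfl
  obtain ⟨hz1, hc1⟩ := flags_sum_lt flag b 65536 pos hfb hfne hbad1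
  obtain ⟨hz2, hc2⟩ := flags_sum_lt flag b 65536 neg hfb hfne (by rw [hsum2]; exact hbad2)
  -- the unknowns of the equation are in range
  have hxe_lt : xe < D.n := by
    unfold SAData.n
    omega
  have hrange : ∀ x ∈ pos ++ neg, x < D.n := by
    intro x hx
    have hkm : D.k * D.m ≤ D.n := by unfold SAData.n; omega
    rcases List.mem_append.mp hx with h1 | h1
    · have := (edgesR_lt D hS w.1.reverse (fun i hi => hw1 i (List.mem_reverse.mp hi)) j hj).2 x h1
      omega
    · rw [hneg] at h1
      rcases List.mem_append.mp h1 with h2 | h2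
      · have := (edgesR_lt D hS w.2.reverse (fun i hi => hw2 i (List.mem_reverse.mp hi)) j hj).2
          x h2
        omega
      · rw [List.mem_singleton] at h2
        rw [h2]; exact hxe_lt
  have hq : ∀ t < C.T, C.q • u (C.gs t) = 0 := fun t ht => hqall _ (hgs t ht)
  apply good_of_eq u C.W C.T C.gs C.q C.c hq1 C.val hq pos neg b hEq (hqall b hbn)
  · rw [← hc1, ← hc2, hsum2]
    exact hgcd
  · intro x hx hxb
    apply ih x (hrange x hx)
    have h0 : flag x = 0 := by
      rcases List.mem_append.mp hx with h1 | h1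
      · exact hz1 x h1 hxb
      · exact hz2 x h1 hxb
    have h0' : C.flagE b (C.rk b) x (C.ent x) = 0 := h0
    unfold SCert.flagE at h0'
    have hbq : Nat.beq x b = false := by
      cases hbq : Nat.beq x b with
      | false => rfl
      | true => exact absurd (Nat.eq_of_beq_eq_true hbq) hxb
    rw [hbq] at h0'
    cases hlt : Nat.blt (C.rkE (C.ent x)) (C.rk b) with
    | false => rw [hlt] at h0'; exact absurd h0' (by norm_num [cond])
    | true =>
      show C.rkE (C.ent x) < C.rk b
      simpa [Nat.blt] using hlt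
  · intro x hx
    exact hfl x (hrange x hx)
  · have h1 := hlen w hmem
    rw [hpos, hneg, edgesR_length, List.length_append, edgesR_length, List.length_reverse,
      List.length_reverse, List.length_singleton]
    exact h1
  · intro t ht
    have := hcong t ht
    rw [hneg, List.map_append, List.sum_append, List.map_singleton, List.sum_singleton]
    exact this

end sound

end Cfsg.Agent.Lib.Helper4.Sparse
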