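import Cfsg.Agent.Lib.Helper4.Sparse.Pack
import Cfsg.Agent.Lib.Helper1.StemZLin

set_option autoImplicit false

/-! # Deduction of the values of the unknowns of a system of equations with coefficients `±1`,
as combinations of a few of them with packed coefficients -/

namespace Cfsg.Agent.Lib.Helper4.Sparse

open Cfsg.Agent.Lib.Helper1.StemZLin

section

variable {A : Type*} [AddCommGroup A] (u : ℕ → A) (W T : ℕ) (gs : ℕ → ℕ)

/-- the element given by a packed vector of coefficients of the distinguished unknowns -/
def vecOf (X : ℕ) : A := ∑ t ∈ Finset.range T, (fld W t X) • u (gs t)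

theorem smul_mod_of_smul_eq_zero (q a : ℕ) (x : A) (hx : q • x = 0) : a • x = (a % q) • x := by
  conv_lhs => rw [← Nat.div_add_mod a q]
  rw [add_smul, mul_comm, mul_smul, hx, smul_zero, zero_add]

theorem vecOf_congr_mod (q : ℕ) (hq : ∀ t < T, q • u (gs t) = 0) (X Y : ℕ)
    (h : ∀ t < T, fld W t X % q = fld W t Y % q) : vecOf u W T gs X = vecOf u W T gs Y := by
  unfold vecOf
  apply Finset.sum_congr rfl
  intro t ht
  have ht' := Finset.mem_range.mp ht
  rw [smul_mod_of_smul_eq_zero q _ _ (hq t ht'), h t ht', ← smul_mod_of_smul_eq_zero q _ _ (hq t ht')]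

theorem vecOf_add_of_fld (X Y : ℕ) (h : ∀ t < T, fld W t (X + Y) = fld W t X + fld W t Y) :
    vecOf u W T gs (X + Y) = vecOf u W T gs X + vecOf u W T gs Y := by
  unfold vecOf
  rw [← Finset.sum_add_distrib]
  apply Finset.sum_congr rfl
  intro t ht
  rw [h t (Finset.mem_range.mp ht), add_smul]

theorem vecOf_zero : vecOf u W T gs 0 = 0 := by
  unfold vecOf
  apply Finset.sum_eq_zero
  intro t _
  have : fld W t 0 = 0 := by simp [fld]
  rw [this, zero_smul]

/-- the element of the sum of a list of packed vectors with small fields -/
theorem vecOf_list_sum (c : ℕ) (L : List ℕ) (hL : ∀ x ∈ L, ∀ s < T, fld W s x ≤ c)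
    (hc : L.length * c < 2 ^ W) :
    vecOf u W T gs L.sum = (L.map (vecOf u W T gs)).sum := by
  induction L with
  | nil => simp [vecOf_zero]
  | cons x L ih =>
    have hc' : L.length * c < 2 ^ W := by
      have : L.length * c ≤ (x :: L).length * c := Nat.mul_le_mul_right _ (by simp)
      omega
    have hL' : ∀ y ∈ L, ∀ s < T, fld W s y ≤ c := fun y hy => hL y (List.mem_cons_of_mem _ hy)
    rw [List.sum_cons, List.map_cons, List.sum_cons, ← ih hL' hc']
    apply vecOf_add_of_fld
    intro t ht
    apply fld_add
    intro s hs
    have h1 := hL x List.mem_cons_self s (by omega)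
    have h2 := (fld_list_sum W c L s (fun y hy r hr => hL' y hy r (by omega)) hc' s le_rfl).2
    have hlen : (x :: L).length * c = c + L.length * c := by
      rw [List.length_cons]; ring
    omega

theorem list_sum_map_sub {B : Type*} [AddCommGroup B] (f g : ℕ → B) (L : List ℕ) :
    (L.map (fun x => f x - g x)).sum = (L.map f).sum - (L.map g).sum := by
  induction L with
  | nil => simp
  | cons x L ih =>
    rw [List.map_cons, List.sum_cons, ih, List.map_cons, List.sum_cons, List.map_cons,
      List.sum_cons]
    abel

theorem list_sum_map_zero {B : Type*} [AddCommGroup B] (d : ℕ → B) (L : List ℕ)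
    (h : ∀ x ∈ L, d x = 0) : (L.map d).sum = 0 := by
  apply List.sum_eq_zero
  intro y hy
  obtain ⟨x, hx, rfl⟩ := List.mem_map.mp hy
  exact h x hx

theorem list_sum_map_count {B : Type*} [AddCommGroup B] (d : ℕ → B) (b : ℕ) (L : List ℕ)
    (h : ∀ x ∈ L, x ≠ b → d x = 0) : (L.map d).sum = L.count b • d b := by
  induction L with
  | nil => simp
  | cons x L ih =>
    rw [List.map_cons, List.sum_cons, ih (fun y hy => h y (List.mem_cons_of_mem _ hy)),
      List.count_cons]
    by_cases hx : x = b
    · subst hx
      simp only [beq_self_eq_true, if_true, add_smul, one_smul]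
      abel
    · rw [h x List.mem_cons_self hx, zero_add]
      have : (x == b) = false := by simpa using hx
      simp [this]

/-- **the step of the deduction**: an equation in which the unknown `b` occurs with a total
coefficient prime to `q`, the other unknowns having the values given by their packed vectors, and
which holds for the packed vectors modulo `q`, gives the value of `b` -/
theorem good_of_eq (q c : ℕ) (hq1 : 1 ≤ q) (val : ℕ → ℕ) (hq : ∀ t < T, q • u (gs t) = 0)
    (pos neg : List ℕ) (b : ℕ)
    (hE : sgnSum u pos neg = 0)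
    (hqb : q • u b = 0)
    (hcop : Nat.Coprime (pos.count b + (q - 1) * neg.count b) q)
    (hgood : ∀ x ∈ pos ++ neg, x ≠ b → u x = vecOf u W T gs (val x))
    (hf : ∀ x ∈ pos ++ neg, ∀ s < T, fld W s (val x) ≤ c)
    (hlen : (pos.length + neg.length) * c < 2 ^ W)
    (hcong : ∀ t < T, fld W t (pos.map val).sum % q = fld W t (neg.map val).sum % q) :
    u b = vecOf u W T gs (val b) := by
  classical
  have hP : vecOf u W T gs (pos.map val).sum = ((pos.map val).map (vecOf u W T gs)).sum := by
    apply vecOf_list_sum u W T gs c
    · intro y hy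
      obtain ⟨x, hx, rfl⟩ := List.mem_map.mp hy
      exact hf x (List.mem_append_left _ hx)
    · rw [List.length_map]
      have : pos.length * c ≤ (pos.length + neg.length) * c := Nat.mul_le_mul_right _ (by omega)
      omega
  have hN : vecOf u W T gs (neg.map val).sum = ((neg.map val).map (vecOf u W T gs)).sum := by
    apply vecOf_list_sum u W T gs c
    · intro y hy
      obtain ⟨x, hx, rfl⟩ := List.mem_map.mp hy
      exact hf x (List.mem_append_right _ hx)
    · rw [List.length_map]
      have : neg.length * c ≤ (pos.length + neg.length) * c := Nat.mul_le_mul_right _ (by omega)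
      omega
  have hV := vecOf_congr_mod u W T gs q hq _ _ hcong
  rw [hP, hN, List.map_map, List.map_map] at hV
  set d : ℕ → A := fun x => u x - vecOf u W T gs (val x) with hd
  have hD : (pos.map d).sum - (neg.map d).sum = 0 := by
    rw [hd, list_sum_map_sub, list_sum_map_sub]
    unfold sgnSum at hE
    have e1 : (pos.map fun x => vecOf u W T gs (val x)) = pos.map (vecOf u W T gs ∘ val) := rfl
    have e2 : (neg.map fun x => vecOf u W T gs (val x)) = neg.map (vecOf u W T gs ∘ val) := rfl
    rw [e1, e2, hV]
    have : (pos.map u).sum = (neg.map u).sum := sub_eq_zero.mp hE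
    rw [this]
    abel
  have hd0 : ∀ x ∈ pos ++ neg, x ≠ b → d x = 0 := by
    intro x hx hxb
    rw [hd]
    exact sub_eq_zero.mpr (hgood x hx hxb)
  rw [list_sum_map_count d b pos (fun x hx => hd0 x (List.mem_append_left _ hx)),
    list_sum_map_count d b neg (fun x hx => hd0 x (List.mem_append_right _ hx))] at hD
  have hqv : q • vecOf u W T gs (val b) = 0 := by
    unfold vecOf
    rw [Finset.smul_sum]
    apply Finset.sum_eq_zero
    intro t ht
    rw [smul_comm, hq t (Finset.mem_range.mp ht), smul_zero]
  have hqd : q • d b = 0 := by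
    show q • (u b - vecOf u W T gs (val b)) = 0
    rw [smul_sub, hqb, hqv, sub_zero]
  have hN' : (pos.count b + (q - 1) * neg.count b) • d b = 0 := by
    have e : (q - 1) * neg.count b + neg.count b = q * neg.count b := by
      have : q - 1 + 1 = q := by omega
      calc (q - 1) * neg.count b + neg.count b = (q - 1 + 1) * neg.count b := by ring
        _ = q * neg.count b := by rw [this]
    have h1 : ((q - 1) * neg.count b) • d b + neg.count b • d b = 0 := by
      rw [← add_smul, e, mul_comm, mul_smul, hqd, smul_zero]
    have h2 : pos.count b • d b = neg.count b • d b := sub_eq_zero.mp hD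
    rw [add_smul, h2, add_comm]
    exact h1
  have key : d b = 0 := by
    have h1 : addOrderOf (d b) ∣ pos.count b + (q - 1) * neg.count b :=
      addOrderOf_dvd_of_nsmul_eq_zero hN'
    have h2 : addOrderOf (d b) ∣ q := addOrderOf_dvd_of_nsmul_eq_zero hqd
    have h3 : addOrderOf (d b) ∣ 1 := by
      have := Nat.dvd_gcd h1 h2
      rwa [Nat.Coprime.gcd_eq_one hcop] at this
    exact AddMonoid.addOrderOf_eq_one_iff.mp (Nat.dvd_one.mp h3)
  exact sub_eq_zero.mp key

/-- an equation between unknowns with known values gives a relation between the distinguished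
unknowns -/
theorem resid_of_eq (q c : ℕ) (val : ℕ → ℕ) (hq : ∀ t < T, q • u (gs t) = 0)
    (pos neg : List ℕ)
    (hE : sgnSum u pos neg = 0)
    (hgood : ∀ x ∈ pos ++ neg, u x = vecOf u W T gs (val x))
    (hf : ∀ x ∈ pos ++ neg, ∀ s < T, fld W s (val x) ≤ c)
    (hlen : (pos.length + neg.length) * c < 2 ^ W) (R : ℕ)
    (hcong : ∀ t < T, fld W t (pos.map val).sum % q =
      (fld W t (neg.map val).sum + fld W t R) % q)
    (hR : ∀ t < T, fld W t ((neg.map val).sum + R) =
      fld W t (neg.map val).sum + fld W t R) :
    vecOf u W T gs R = 0 := by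
  have hP : vecOf u W T gs (pos.map val).sum = ((pos.map val).map (vecOf u W T gs)).sum := by
    apply vecOf_list_sum u W T gs c
    · intro y hy
      obtain ⟨x, hx, rfl⟩ := List.mem_map.mp hy
      exact hf x (List.mem_append_left _ hx)
    · rw [List.length_map]
      have : pos.length * c ≤ (pos.length + neg.length) * c := Nat.mul_le_mul_right _ (by omega)
      omega
  have hN : vecOf u W T gs (neg.map val).sum = ((neg.map val).map (vecOf u W T gs)).sum := by
    apply vecOf_list_sum u W T gs c
    · intro y hy
      obtain ⟨x, hx, rfl⟩ := List.mem_map.mp hy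
      exact hf x (List.mem_append_right _ hx)
    · rw [List.length_map]
      have : neg.length * c ≤ (pos.length + neg.length) * c := Nat.mul_le_mul_right _ (by omega)
      omega
  have hV : vecOf u W T gs (pos.map val).sum = vecOf u W T gs ((neg.map val).sum + R) := by
    apply vecOf_congr_mod u W T gs q hq
    intro t ht
    rw [hR t ht]
    exact hcong t ht
  rw [vecOf_add_of_fld u W T gs _ _ hR, hP, hN, List.map_map, List.map_map] at hV
  have e1 : pos.map (vecOf u W T gs ∘ val) = pos.map u := by
    apply List.map_congr_left
    intro x hx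
    exact (hgood x (List.mem_append_left _ hx)).symm
  have e2 : neg.map (vecOf u W T gs ∘ val) = neg.map u := by
    apply List.map_congr_left
    intro x hx
    exact (hgood x (List.mem_append_right _ hx)).symm
  rw [e1, e2] at hV
  unfold sgnSum at hE
  have : (pos.map u).sum = (neg.map u).sum := sub_eq_zero.mp hE
  rw [this] at hV
  have h0 : (neg.map u).sum + 0 = (neg.map u).sum + vecOf u W T gs R := by
    rw [add_zero]; exact hV
  exact (add_left_cancel h0).symm

end

end Cfsg.Agent.Lib.Helper4.Sparse
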