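import Cfsg.Agent.Lib.Helper4.Sparse.Deduce

set_option autoImplicit false

/-! # From the values modulo `p ^ (E + 1)` to a cyclic group of order at most `p ^ E` -/

namespace Cfsg.Agent.Lib.Helper4.Sparse

section targets

variable {A : Type*} [AddCommGroup A] (u : ℕ → A) (W T : ℕ) (gs : ℕ → ℕ)

/-- if the relations `tgt i` hold, the first one being `pE • f₀ = 0` and the others
`f_i + c_i • f₀ = 0`, all the distinguished unknowns are multiples of the first one -/
theorem targets (pE : ℕ) (tgt : ℕ → ℕ) (hT : 0 < T)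
    (h0 : fld W 0 (tgt 0) = pE) (h0' : ∀ t < T, 0 < t → fld W t (tgt 0) = 0)
    (hi : ∀ i < T, 0 < i → fld W i (tgt i) = 1)
    (hi' : ∀ i < T, 0 < i → ∀ t < T, 0 < t → t ≠ i → fld W t (tgt i) = 0)
    (hv : ∀ i < T, vecOf u W T gs (tgt i) = 0) :
    pE • u (gs 0) = 0 ∧ ∀ t < T, u (gs t) ∈ AddSubgroup.zmultiples (u (gs 0)) := by
  constructor
  · have h := hv 0 hT
    unfold vecOf at h
    rw [Finset.sum_eq_single 0] at h
    · rwa [h0] at h
    · intro t ht ht0
      rw [h0' t (Finset.mem_range.mp ht) (Nat.pos_of_ne_zero ht0), zero_smul]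
    · intro h'
      exact absurd (Finset.mem_range.mpr hT) h'
  · intro t ht
    by_cases ht0 : t = 0
    · subst ht0
      exact AddSubgroup.mem_zmultiples _
    · have htp : 0 < t := Nat.pos_of_ne_zero ht0
      have h := hv t ht
      unfold vecOf at h
      have hsum : ∑ s ∈ Finset.range T, fld W s (tgt t) • u (gs s) =
          fld W 0 (tgt t) • u (gs 0) + fld W t (tgt t) • u (gs t) := by
        apply Finset.sum_eq_add_of_mem 0 t (Finset.mem_range.mpr hT) (Finset.mem_range.mpr ht)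
          (Ne.symm ht0)
        intro s hs hne
        rw [hi' t ht htp s (Finset.mem_range.mp hs) (Nat.pos_of_ne_zero hne.1) hne.2, zero_smul]
      rw [hsum, hi t ht htp, one_smul] at h
      have : u (gs t) = -(fld W 0 (tgt t) • u (gs 0)) := by
        rw [eq_neg_iff_add_eq_zero, add_comm]; exact h
      rw [this]
      apply AddSubgroup.neg_mem
      exact AddSubgroup.nsmul_mem _ (AddSubgroup.mem_zmultiples _) _

theorem vecOf_mem (H : AddSubgroup A) (h : ∀ t < T, u (gs t) ∈ H) (X : ℕ) :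
    vecOf u W T gs X ∈ H := by
  unfold vecOf
  apply AddSubgroup.sum_mem
  intro t ht
  exact AddSubgroup.nsmul_mem _ (h t (Finset.mem_range.mp ht)) _

end targets

section naka

variable {M : Type*} [AddCommGroup M]

/-- the subgroup generated by the values of the unknowns -/
def valSpan (v : ℕ → M) (n : ℕ) : AddSubgroup M := AddSubgroup.closure {x | ∃ b < n, x = v b}

/-- the multiples by `q` of the elements of this subgroup -/
def valSpanQ (v : ℕ → M) (n q : ℕ) : AddSubgroup M :=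
  (valSpan v n).map (nsmulAddMonoidHom q : M →+ M)

theorem mem_valSpanQ (v : ℕ → M) (n q : ℕ) (x : M) :
    x ∈ valSpanQ v n q ↔ ∃ y ∈ valSpan v n, q • y = x := by
  unfold valSpanQ
  rw [AddSubgroup.mem_map]
  rfl

/-- **the bound**: if modulo `p ^ (E + 1)` times the span of the values, all the values are
multiples of the value `f` of one of the unknowns and `p ^ E • f` vanishes, then the values lie in
a subgroup of order at most `p ^ E` -/
theorem card_le_of_cyclic_mod (p E a n : ℕ) (hp : p.Prime) (v : ℕ → M)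
    (hpa : ∀ x : M, (p ^ a) • x = 0) (g0 : ℕ) (hg0 : g0 < n)
    (h1 : ∀ b < n, ∃ c : ℤ, ∃ y ∈ valSpan v n, v b = c • v g0 + (p ^ (E + 1)) • y)
    (h2 : ∃ y ∈ valSpan v n, (p ^ E) • v g0 = (p ^ (E + 1)) • y) :
    ∃ A₀ : AddSubgroup M, (∀ b < n, v b ∈ A₀) ∧ Nat.card A₀ ≤ p ^ E := by
  set f := v g0 with hf
  set N := valSpan v n with hN
  have hfN : f ∈ N := AddSubgroup.subset_closure ⟨g0, hg0, rfl⟩
  -- step 1
  have s1 : ∀ x ∈ N, ∃ c : ℤ, ∃ y ∈ N, x = c • f + (p ^ (E + 1)) • y := by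
    intro x hx
    induction hx using AddSubgroup.closure_induction with
    | mem x hx =>
      obtain ⟨b, hb, rfl⟩ := hx
      exact h1 b hb
    | zero => exact ⟨0, 0, N.zero_mem, by simp⟩
    | add x y _ _ ihx ihy =>
      obtain ⟨c, z, hz, e⟩ := ihx
      obtain ⟨c', z', hz', e'⟩ := ihy
      refine ⟨c + c', z + z', N.add_mem hz hz', ?_⟩
      rw [e, e', add_smul, smul_add]
      abel
    | neg x _ ihx =>
      obtain ⟨c, z, hz, e⟩ := ihx
      refine ⟨-c, -z, N.neg_mem hz, ?_⟩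
      rw [e, neg_smul, smul_neg]
      abel
  -- step 2
  have s2 : ∀ i : ℕ, ∀ x ∈ N, ∃ c : ℤ, ∃ y ∈ N, x = c • f + (p ^ i) • y := by
    intro i
    induction i with
    | zero =>
      intro x hx
      exact ⟨0, x, hx, by simp⟩
    | succ i ih =>
      intro x hx
      obtain ⟨c, y, hy, e⟩ := ih x hx
      obtain ⟨c', y', hy', e'⟩ := s1 y hy
      refine ⟨c + (p ^ i : ℕ) * c', (p ^ E) • y', N.nsmul_mem hy' _, ?_⟩
      rw [e, e', smul_add, add_smul, ← add_assoc]
      congr 1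
      · congr 1
        rw [mul_smul, natCast_zsmul, smul_comm]
      · rw [← mul_smul, ← mul_smul]
        congr 1
        rw [pow_succ, pow_succ]
        ring
  -- step 3
  have s3 : ∀ x ∈ N, x ∈ AddSubgroup.zmultiples f := by
    intro x hx
    obtain ⟨c, y, _, e⟩ := s2 a x hx
    rw [e, hpa, add_zero]
    exact AddSubgroup.zsmul_mem _ (AddSubgroup.mem_zmultiples _) _
  -- step 4
  have s4 : (p ^ E) • f = 0 := by
    obtain ⟨y, hy, e⟩ := h2
    obtain ⟨m, hm⟩ := AddSubgroup.mem_zmultiples_iff.mp (s3 y hy)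
    have e1 : ((p ^ E : ℕ) : ℤ) • f = (((p ^ E : ℕ) : ℤ) * ((p : ℤ) * m)) • f := by
      rw [natCast_zsmul, e, ← hm, ← natCast_zsmul, ← mul_smul]
      congr 1
      push_cast
      ring
    have e2 : (((p ^ E : ℕ) : ℤ) * (1 - (p : ℤ) * m)) • f = 0 := by
      rw [mul_sub, mul_one, sub_smul, ← e1, sub_self]
    have hcop : IsCoprime (1 - (p : ℤ) * m) ((p : ℤ) ^ a) :=
      IsCoprime.pow_right ⟨1, m, by ring⟩
    obtain ⟨s, t, hst⟩ := hcop
    have e3 : ((p : ℤ) ^ a) • f = 0 := by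
      have := hpa f
      rw [← natCast_zsmul] at this
      push_cast at this
      exact this
    have : ((p ^ E : ℕ) : ℤ) • f = 0 := by
      calc ((p ^ E : ℕ) : ℤ) • f = (((p ^ E : ℕ) : ℤ) * (s * (1 - (p : ℤ) * m) + t * (p : ℤ) ^ a)) • f := by
            rw [hst, mul_one]
        _ = s • ((((p ^ E : ℕ) : ℤ) * (1 - (p : ℤ) * m)) • f) +
            (((p ^ E : ℕ) : ℤ) * t) • (((p : ℤ) ^ a) • f) := by
            rw [← mul_smul, ← mul_smul, ← add_smul]
            congr 1
            ring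
        _ = 0 := by rw [e2, e3, smul_zero, smul_zero, add_zero]
    rwa [natCast_zsmul] at this
  refine ⟨AddSubgroup.zmultiples f, ?_, ?_⟩
  · intro b hb
    exact s3 _ (AddSubgroup.subset_closure ⟨b, hb, rfl⟩)
  · rw [Nat.card_zmultiples]
    apply Nat.le_of_dvd (pow_pos hp.pos E)
    exact addOrderOf_dvd_of_nsmul_eq_zero s4

/-- the same with the hypotheses in the quotient by the multiples of the span -/
theorem card_le_of_quot (p E a n : ℕ) (hp : p.Prime) (v : ℕ → M)
    (hpa : ∀ x : M, (p ^ a) • x = 0) (g0 : ℕ) (hg0 : g0 < n)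
    (hu1 : ∀ b < n, (QuotientAddGroup.mk (v b) : M ⧸ valSpanQ v n (p ^ (E + 1))) ∈
      AddSubgroup.zmultiples (QuotientAddGroup.mk (v g0) : M ⧸ valSpanQ v n (p ^ (E + 1))))
    (hu2 : (p ^ E) • (QuotientAddGroup.mk (v g0) : M ⧸ valSpanQ v n (p ^ (E + 1))) = 0) :
    ∃ A₀ : AddSubgroup M, (∀ b < n, v b ∈ A₀) ∧ Nat.card A₀ ≤ p ^ E := by
  apply card_le_of_cyclic_mod p E a n hp v hpa g0 hg0
  · intro b hb
    obtain ⟨c, hc⟩ := AddSubgroup.mem_zmultiples_iff.mp (hu1 b hb)
    have h : (QuotientAddGroup.mk (v b - c • v g0) : M ⧸ valSpanQ v n (p ^ (E + 1))) = 0 := by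
      rw [QuotientAddGroup.mk_sub, QuotientAddGroup.mk_zsmul, hc, sub_self]
    rw [QuotientAddGroup.eq_zero_iff, mem_valSpanQ] at h
    obtain ⟨y, hy, e⟩ := h
    exact ⟨c, y, hy, by rw [e]; abel⟩
  · have h : (QuotientAddGroup.mk ((p ^ E) • v g0) : M ⧸ valSpanQ v n (p ^ (E + 1))) = 0 := by
      rw [QuotientAddGroup.mk_nsmul]; exact hu2
    rw [QuotientAddGroup.eq_zero_iff, mem_valSpanQ] at h
    obtain ⟨y, hy, e⟩ := h
    exact ⟨y, hy, e.symm⟩

end naka

end Cfsg.Agent.Lib.Helper4.Sparse
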