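import Mathlib

set_option autoImplicit false

/-! # Vectors of small numbers packed in one number: the fields of a sum -/

namespace Cfsg.Agent.Lib.Helper4.Sparse

/-- the field number `t`, of width `W`, of a packed number -/
def fld (W t X : ℕ) : ℕ := X / 2 ^ (W * t) % 2 ^ W

theorem fld_lt (W t X : ℕ) : fld W t X < 2 ^ W := Nat.mod_lt _ (by positivity)

theorem mod_succ_eq (W t X : ℕ) :
    X % 2 ^ (W * (t + 1)) = X % 2 ^ (W * t) + 2 ^ (W * t) * fld W t X := by
  have e : 2 ^ (W * (t + 1)) = (2 ^ W) ^ (t + 1) := by rw [← pow_mul]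
  have e' : 2 ^ (W * t) = (2 ^ W) ^ t := by rw [← pow_mul]
  unfold fld
  rw [e, e', Nat.mod_pow_succ]

/-- without carries, the low parts add up -/
theorem mod_add_of_fld (W : ℕ) (X Y : ℕ) (t : ℕ)
    (h : ∀ s < t, fld W s X + fld W s Y < 2 ^ W) :
    (X + Y) % 2 ^ (W * t) = X % 2 ^ (W * t) + Y % 2 ^ (W * t) := by
  induction t with
  | zero => simp [Nat.mod_one]
  | succ t ih =>
    have ih' := ih (fun s hs => h s (by omega))
    have ht := h t (by omega)
    have hX := mod_succ_eq W t X
    have hY := mod_succ_eq W t Y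
    have hlt : (X + Y) % 2 ^ (W * t) < 2 ^ (W * t) := Nat.mod_lt _ (by positivity)
    have hpos : 0 < 2 ^ (W * t) := by positivity
    have e : 2 ^ (W * (t + 1)) = 2 ^ (W * t) * 2 ^ W := by rw [← pow_add]; ring_nf
    have hsum : X % 2 ^ (W * (t + 1)) + Y % 2 ^ (W * (t + 1)) < 2 ^ (W * (t + 1)) := by
      rw [hX, hY, e]
      have h1 : 2 ^ (W * t) * (fld W t X + fld W t Y) + 2 ^ (W * t) ≤ 2 ^ (W * t) * 2 ^ W := by
        have : fld W t X + fld W t Y + 1 ≤ 2 ^ W := ht
        calc 2 ^ (W * t) * (fld W t X + fld W t Y) + 2 ^ (W * t)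
            = 2 ^ (W * t) * (fld W t X + fld W t Y + 1) := by ring
          _ ≤ 2 ^ (W * t) * 2 ^ W := Nat.mul_le_mul_left _ this
      rw [ih'] at hlt
      nlinarith
    rw [Nat.add_mod, Nat.mod_eq_of_lt hsum]

/-- without carries, the fields of a sum are the sums of the fields -/
theorem fld_add (W : ℕ) (X Y : ℕ) (t : ℕ)
    (h : ∀ s ≤ t, fld W s X + fld W s Y < 2 ^ W) :
    fld W t (X + Y) = fld W t X + fld W t Y := by
  have h1 := mod_add_of_fld W X Y (t + 1) (fun s hs => h s (by omega))
  have h0 := mod_add_of_fld W X Y t (fun s hs => h s (by omega))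
  rw [mod_succ_eq, mod_succ_eq W t X, mod_succ_eq W t Y, h0] at h1
  have hpos : 0 < 2 ^ (W * t) := by positivity
  have h2 : 2 ^ (W * t) * fld W t (X + Y) = 2 ^ (W * t) * (fld W t X + fld W t Y) := by
    rw [Nat.mul_add]; omega
  exact Nat.eq_of_mul_eq_mul_left hpos h2

/-- the fields of the sum of a list of packed numbers with small fields -/
theorem fld_list_sum (W c : ℕ) (L : List ℕ) (t : ℕ)
    (hL : ∀ x ∈ L, ∀ s ≤ t, fld W s x ≤ c) (hc : L.length * c < 2 ^ W) :
    ∀ s ≤ t, fld W s L.sum = (L.map (fld W s)).sum ∧ fld W s L.sum ≤ L.length * c := by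
  induction L with
  | nil =>
    intro s _
    simp [fld]
  | cons x L ih =>
    have hc' : L.length * c < 2 ^ W := by
      have : L.length * c ≤ (x :: L).length * c := Nat.mul_le_mul_right _ (by simp)
      omega
    have ih' := ih (fun y hy => hL y (List.mem_cons_of_mem _ hy)) hc'
    have hlen : (x :: L).length * c = c + L.length * c := by
      rw [List.length_cons]; ring
    have hadd : ∀ s ≤ t, fld W s (x + L.sum) = fld W s x + fld W s L.sum := by
      intro s hs
      apply fld_add
      intro r hr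
      have h1 := hL x List.mem_cons_self r (by omega)
      have h2 := (ih' r (by omega)).2
      omega
    intro s hs
    rw [List.sum_cons, List.map_cons, List.sum_cons, hadd s hs, (ih' s hs).1]
    refine ⟨rfl, ?_⟩
    rw [← (ih' s hs).1, hlen]
    have h1 := hL x List.mem_cons_self s hs
    have h2 := (ih' s hs).2
    omega

end Cfsg.Agent.Lib.Helper4.Sparse
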