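import Cfsg.Agent.Lib.Helper4.Sparse.Check

set_option autoImplicit false

/-! # The sparse certificate: all the unknowns have the values given by their packed vectors -/

namespace Cfsg.Agent.Lib.Helper4.Sparse

open Cfsg.Agent.Lib.Helper1.StemSA Cfsg.Agent.Lib.Helper1.StemZA Cfsg.Agent.Lib.Helper1.StemZLin
open Cfsg.Agent.Lib.Helper6.TC

section sound

variable (D : SAData) (C : SCert) {A : Type*} [AddCommGroup A] (u : ℕ → A)
  (hS : D.chkStruct = true)
  (hE : ∀ s : ℕ × ℕ, D.chkSpec s = true → sgnSum u (posL D s) (negL D s) = 0)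
  (hnorm : ∀ r < C.nn, u (D.k * D.m + r) = 0)
  (hqall : ∀ b < D.n, C.q • u b = 0) (hgs : ∀ t < C.T, C.gs t < D.n) (hq1 : 1 ≤ C.q)
  (hlen : ∀ w ∈ D.rels, (w.1.length + (w.2.length + 1)) * C.c < 2 ^ C.W)
  (hcW : C.c < 2 ^ C.W) (hW : 0 < C.W)

include hE hqall hgs hq1 hcW in
/-- the step for the equation of an edge of the tree -/
theorem good_of_chkTree (b j : ℕ) (hb : b < D.n) (h : chkTree D C b (C.val b) j = true)
    (hfl : ∀ x < D.n, ∀ s < C.T, fld C.W s (C.val x) ≤ C.c) :
    u b = vecOf u C.W C.T C.gs (C.val b) := by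
  unfold chkTree at h
  rw [band_eq_true, band_eq_true, band_eq_true] at h
  obtain ⟨h0, hj, hpar, hcong⟩ := h
  have h0 : 0 < j := by
    have : 1 ≤ j := by simpa [Nat.blt] using h0
    omega
  have hj : j < D.m := by simpa [Nat.blt] using hj
  have hpar := Nat.eq_of_beq_eq_true hpar
  have hcong := C.congB_spec hcong
  have hspec : D.chkSpec (0, j) = true := by
    unfold SAData.chkSpec
    simp only [Bool.and_eq_true, decide_eq_true_eq]
    exact ⟨hj, h0⟩
  have hEq := hE (0, j) hspec
  have e1 : posL D (0, j) = [b] := by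
    show [(D.par j).1 * D.m + (D.par j).2] = [b]
    rw [hpar]
  have e2 : negL D (0, j) = [] := rfl
  rw [e1, e2] at hEq
  have hq : ∀ t < C.T, C.q • u (C.gs t) = 0 := fun t ht => hqall _ (hgs t ht)
  apply good_of_eq u C.W C.T C.gs C.q C.c hq1 C.val hq [b] [] b hEq (hqall b hb) (by simp)
  · intro x hx hxb
    simp only [List.append_nil, List.mem_singleton] at hx
    exact absurd hx hxb
  · intro x hx
    simp only [List.append_nil, List.mem_singleton] at hx
    rw [hx]
    exact hfl b hb
  · simpa using hcW
  · intro t ht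
    simpa using hcong t ht

include hS hE hnorm hqall hgs hq1 hlen hcW hW in
/-- the step for an unknown -/
theorem good_of_chkU (b : ℕ) (hb : b < D.n) (h : chkU D C b = true)
    (ih : ∀ x < D.n, C.rk x < C.rk b → u x = vecOf u C.W C.T C.gs (C.val x))
    (hfl : ∀ x < D.n, ∀ s < C.T, fld C.W s (C.val x) ≤ C.c) :
    u b = vecOf u C.W C.T C.gs (C.val b) := by
  unfold chkU at h
  rw [sB_eq, band_eq_true] at h
  obtain ⟨_, h⟩ := h
  unfold chkCode at h
  cases h1 : Nat.blt (C.eqE (C.ent b)) (topCode D) with
  | true =>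
    rw [h1] at h
    simp only [cond_true] at h
    unfold chkEq at h
    cases hs : C.eqE (C.ent b) / D.m with
    | zero =>
      rw [hs] at h
      exact good_of_chkTree D C u hE hqall hgs hq1 hcW b _ hb h hfl
    | succ r =>
      rw [hs] at h
      exact good_of_chkRel D C u hS hE hqall hgs hq1 hlen b r _ hb h ih hfl
  | false =>
    rw [h1] at h
    simp only [cond_false] at h
    cases h2 : Nat.beq (C.eqE (C.ent b)) (topCode D) with
    | true =>
      rw [h2] at h
      simp only [cond_true] at h
      rw [band_eq_true, band_eq_true] at h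
      obtain ⟨ha, hb', hv⟩ := h
      have ha : D.k * D.m ≤ b := Nat.le_of_ble_eq_true ha
      have hb' : b < D.k * D.m + C.nn := by simpa [Nat.blt] using hb'
      have hv : C.val b = 0 := Nat.eq_of_beq_eq_true hv
      rw [hv, vecOf_zero]
      have := hnorm (b - D.k * D.m) (by omega)
      have e : D.k * D.m + (b - D.k * D.m) = b := by omega
      rwa [e] at this
    | false =>
      rw [h2] at h
      simp only [cond_false] at h
      rw [band_eq_true, band_eq_true] at h
      obtain ⟨ht, hg, hv⟩ := h
      have ht : C.eqE (C.ent b) - topCode D - 1 < C.T := by simpa [Nat.blt] using ht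
      have hg := Nat.eq_of_beq_eq_true hg
      have hv : C.val b = 2 ^ (C.W * (C.eqE (C.ent b) - topCode D - 1)) :=
        Nat.eq_of_beq_eq_true hv
      rw [hv, vecOf_two_pow C u hW _ ht, hg]

include hS hE hnorm hqall hgs hq1 hlen hcW hW in
/-- **the values of the unknowns**: if all the unknowns pass the check, all of them have the values
given by their packed vectors -/
theorem good_all (hall : ∀ b < D.n, chkU D C b = true) :
    ∀ b < D.n, u b = vecOf u C.W C.T C.gs (C.val b) := by
  have hfl : ∀ x < D.n, ∀ s < C.T, fld C.W s (C.val x) ≤ C.c := by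
    intro x hx
    have h := hall x hx
    unfold chkU at h
    rw [sB_eq, band_eq_true] at h
    exact C.fieldsLe_spec h.1
  have key : ∀ r : ℕ, ∀ b < D.n, C.rk b = r → u b = vecOf u C.W C.T C.gs (C.val b) := by
    intro r
    induction r using Nat.strong_induction_on with
    | _ r ih =>
      intro b hb hr
      apply good_of_chkU D C u hS hE hnorm hqall hgs hq1 hlen hcW hW b hb (hall b hb) _ hfl
      intro x hx hlt
      exact ih (C.rk x) (by omega) x hx rfl
  intro b hb
  exact key _ b hb rfl

end sound

end Cfsg.Agent.Lib.Helper4.Sparse
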