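import Cfsg.Agent.Lib.Helper4.Sparse.Naka
import Cfsg.Agent.Lib.Helper1.StemZP4
import Cfsg.Agent.Lib.Helper6.TC1

set_option autoImplicit false

/-! # Walks along the words of the relations: the unknowns met, as lists and as sums computed
with strict evaluation -/

namespace Cfsg.Agent.Lib.Helper4.Sparse

open Cfsg.Agent.Lib.Helper1.StemSA Cfsg.Agent.Lib.Helper1.StemZA Cfsg.Agent.Lib.Helper1.StemZLin
open Cfsg.Agent.Lib.Helper6.TC

/-- apply a function to a number after evaluating it -/
noncomputable def sB (f : ℕ → Bool) (n : ℕ) : Bool :=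
  Nat.rec (motive := fun _ => Bool) (f 0) (fun m _ => f (m + 1)) n

theorem sB_eq (f : ℕ → Bool) (n : ℕ) : sB f n = f n := by
  cases n <;> rfl

section walk

variable (m : ℕ) (pi : ℕ → ℕ → ℕ)

/-- the unknowns met by a word, the first letter acting first -/
def edgesR : List ℕ → ℕ → List ℕ
  | [], _ => []
  | i :: u, p => (i * m + p) :: edgesR u (pi i p)

/-- the end of the walk of a word, the first letter acting first -/
def endR : List ℕ → ℕ → ℕ
  | [], p => p
  | i :: u, p => endR u (pi i p)

theorem edgesR_length (u : List ℕ) (p : ℕ) : (edgesR m pi u p).length = u.length := by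
  induction u generalizing p with
  | nil => rfl
  | cons i u ih => simp [edgesR, ih]

theorem edgesR_append (u u' : List ℕ) (p : ℕ) :
    edgesR m pi (u ++ u') p = edgesR m pi u p ++ edgesR m pi u' (endR pi u p) := by
  induction u generalizing p with
  | nil => rfl
  | cons i u ih => simp [edgesR, endR, ih]

theorem endR_append (u u' : List ℕ) (p : ℕ) :
    endR pi (u ++ u') p = endR pi u' (endR pi u p) := by
  induction u generalizing p with
  | nil => rfl
  | cons i u ih => simp [endR, ih]

end walk

section sadata

variable (D : SAData)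

theorem actW_eq_endR (w : List ℕ) (j : ℕ) : D.actW w j = endR D.pi w.reverse j := by
  induction w with
  | nil => rfl
  | cons i w ih =>
    rw [SAData.actW_cons, List.reverse_cons, endR_append, ← ih]
    rfl

theorem edgesW_eq_edgesR (w : List ℕ) (j : ℕ) :
    D.edgesW w j = (edgesR D.m D.pi w.reverse j).reverse := by
  induction w with
  | nil => rfl
  | cons i w ih =>
    rw [List.reverse_cons, edgesR_append, List.reverse_append, ← ih, ← actW_eq_endR]
    rfl

theorem sum_edgesW {A : Type*} [AddCommMonoid A] (u : ℕ → A) (w : List ℕ) (j : ℕ) :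
    ((D.edgesW w j).map u).sum = ((edgesR D.m D.pi w.reverse j).map u).sum := by
  rw [edgesW_eq_edgesR, List.map_reverse, List.sum_reverse]

end sadata

section walkC

variable (m : ℕ) (pi : ℕ → ℕ → ℕ) (ent : ℕ → ℕ) (valE : ℕ → ℕ) (flagE : ℕ → ℕ → ℕ)

/-- the walk along a word computing the end point, the sum of the values and the sum of the flags
of the unknowns met, passed to a continuation -/
noncomputable def walkC : List ℕ → (ℕ → ℕ → ℕ → Bool) → ℕ → ℕ → ℕ → Bool
  | [], K, p, S, bad => K p S bad
  | i :: u, K, p, S, bad =>
    sB (fun x => sB (fun e => sB (fun S' => sB (fun bad' => sB (fun p' =>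
      walkC u K p' S' bad') (pi i p)) (bad + flagE x e)) (S + valE e)) (ent x)) (i * m + p)

theorem walkC_eq (u : List ℕ) (K : ℕ → ℕ → ℕ → Bool) (p S bad : ℕ) :
    walkC m pi ent valE flagE u K p S bad =
      K (endR pi u p) (S + ((edgesR m pi u p).map (fun x => valE (ent x))).sum)
        (bad + ((edgesR m pi u p).map (fun x => flagE x (ent x))).sum) := by
  induction u generalizing p S bad with
  | nil => simp [walkC, endR, edgesR]
  | cons i u ih =>
    unfold walkC
    rw [sB_eq, sB_eq, sB_eq, sB_eq, sB_eq, ih]
    simp only [endR, edgesR, List.map_cons, List.sum_cons]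
    rw [Nat.add_assoc, Nat.add_assoc]

end walkC

/-- a small sum of flags with values `0`, `1` (for the element `b`) or large: it counts the
occurrences of `b`, and the other elements have the flag `0` -/
theorem flags_sum_lt (flag : ℕ → ℕ) (b BIG : ℕ) (L : List ℕ) (hb : flag b = 1)
    (hne : ∀ x, x ≠ b → flag x = 0 ∨ BIG ≤ flag x) (h : (L.map flag).sum < BIG) :
    (∀ x ∈ L, x ≠ b → flag x = 0) ∧ (L.map flag).sum = L.count b := by
  induction L with
  | nil => simp
  | cons x L ih =>
    rw [List.map_cons, List.sum_cons] at h ⊢
    obtain ⟨h1, h2⟩ := ih (by omega)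
    by_cases hx : x = b
    · subst hx
      refine ⟨?_, ?_⟩
      · intro y hy hyb
        rcases List.mem_cons.mp hy with rfl | hy'
        · exact absurd rfl hyb
        · exact h1 y hy' hyb
      · rw [hb, h2, List.count_cons_self]
        omega
    · rcases hne x hx with h0 | hbig
      · refine ⟨?_, ?_⟩
        · intro y hy hyb
          rcases List.mem_cons.mp hy with rfl | hy'
          · exact h0
          · exact h1 y hy' hyb
        · rw [h0, h2, Nat.zero_add, List.count_cons_of_ne (by simpa using hx)]
      · omega

end Cfsg.Agent.Lib.Helper4.Sparse
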